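import Groth.Agent.Lib.AlgSpace.Local
import Mathlib.AlgebraicGeometry.Gluing

/-!
# A sheaf covered by open subschemes is a scheme
-/

universe u

open CategoryTheory CategoryTheory.Limits AlgebraicGeometry Opposite AlgSp

namespace Groth.Agent.Lib.UnivThick.OpenCover

variable {S : Scheme.{u}} {F : Sp S} {ι : Type u} {O : ι → Over S}
  {f : ∀ i, (yon S).obj (O i) ⟶ F} (hf : ∀ i, RepWith @IsOpenImmersion (f i))

include hf in
theorem mono_f (i : ι) : Mono (f i) :=
  AlgSpace.mono_of_repWith (fun _ _ g (hg : IsOpenImmersion g) =>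
    (inferInstanceAs (Mono g) : MorphismProperty.monomorphisms Scheme.{u} g)) (hf i)

theorem isOpenImmersion_fst' (i j : ι) : IsOpenImmersion ((hf i).1.fst' (f j)).left :=
  (hf j).2 (f i) _ _ ((hf i).1.isPullback' (f j)).flip

/-- The overlap of two charts. -/
noncomputable abbrev V (i j : ι) : Over S := (hf i).1.pullback (f j)

theorem f_id (i : ι) : IsIso ((hf i).1.fst' (f i)).left := by
  have := mono_f hf i
  have : IsOpenImmersion ((hf i).1.fst' (f i)).left := isOpenImmersion_fst' hf i i
  have : IsSplitEpi ((hf i).1.fst' (f i)).left :=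
    IsSplitEpi.mk' ⟨((hf i).1.lift' (𝟙 _) (𝟙 _) rfl).left, by
      rw [← Over.comp_left, Functor.relativelyRepresentable.lift'_fst]; rfl⟩
  exact isIso_of_mono_of_isSplitEpi _

/-- The triple overlap. -/
noncomputable abbrev W (i j k : ι) : Over S :=
  Over.mk (pullback.fst ((hf i).1.fst' (f j)).left ((hf i).1.fst' (f k)).left ≫ (V hf i j).hom)

/-- First projection of the triple overlap. -/
noncomputable abbrev p₁ (i j k : ι) : W hf i j k ⟶ V hf i j := Over.homMk (pullback.fst _ _) rfl

/-- Second projection of the triple overlap. -/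
noncomputable abbrev p₂ (i j k : ι) : W hf i j k ⟶ V hf i k := Over.homMk (pullback.snd _ _) (by
  change pullback.snd _ _ ≫ (V hf i k).hom = pullback.fst _ _ ≫ (V hf i j).hom
  rw [← Over.w ((hf i).1.fst' (f k)), ← Over.w ((hf i).1.fst' (f j)), pullback.condition_assoc])

theorem p_w (i j k : ι) :
    p₁ hf i j k ≫ (hf i).1.fst' (f j) = p₂ hf i j k ≫ (hf i).1.fst' (f k) := by
  ext : 1
  exact pullback.condition

theorem lift_w (i j k : ι) : (yon S).map (p₁ hf i j k ≫ (hf i).1.snd (f j)) ≫ f j =
    (yon S).map (p₂ hf i j k ≫ (hf i).1.snd (f k)) ≫ f k := by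
  simp only [Functor.map_comp, Category.assoc, ← ((hf i).1.isPullback' (f j)).w,
    ← ((hf i).1.isPullback' (f k)).w]
  rw [← Functor.map_comp_assoc, p_w, Functor.map_comp_assoc]

/-- The map to `V j k`. -/
noncomputable abbrev q₁ (i j k : ι) : W hf i j k ⟶ V hf j k :=
  (hf j).1.lift' (p₁ hf i j k ≫ (hf i).1.snd (f j)) (p₂ hf i j k ≫ (hf i).1.snd (f k))
    (lift_w hf i j k)

/-- The map to `V j i`. -/
noncomputable abbrev q₂ (i j k : ι) : W hf i j k ⟶ V hf j i :=
  p₁ hf i j k ≫ (hf i).1.symmetry (hf j).1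

theorem q_w (i j k : ι) : (q₁ hf i j k).left ≫ ((hf j).1.fst' (f k)).left =
    (q₂ hf i j k).left ≫ ((hf j).1.fst' (f i)).left := by
  rw [← Over.comp_left, ← Over.comp_left, Functor.relativelyRepresentable.lift'_fst]
  simp [q₂]

/-- The glueing datum. -/
noncomputable def glueData : Scheme.GlueData where
  J := ι
  U i := (O i).left
  V := fun (i, j) => (V hf i j).left
  f i j := ((hf i).1.fst' (f j)).left
  f_mono i j := have := isOpenImmersion_fst' hf i j; inferInstance
  f_id i := f_id hf i
  t i j := ((hf i).1.symmetry (hf j).1).left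
  t_id i := by
    have h : (hf i).1.symmetry (hf i).1 = 𝟙 _ := by
      have := mono_f hf i
      have e : (hf i).1.fst' (f i) = (hf i).1.snd (f i) :=
        (yon S).map_injective ((cancel_mono (f i)).1 ((hf i).1.isPullback' (f i)).w)
      apply Functor.relativelyRepresentable.hom_ext' <;> simp [e]
    rw [h]; rfl
  t' i j k := pullback.lift (q₁ hf i j k).left (q₂ hf i j k).left (q_w hf i j k)
  t_fac i j k := pullback.lift_snd _ _ _
  cocycle i j k := by
    have key : ∀ a b c : ι, pullback.lift (q₁ hf a b c).left (q₂ hf a b c).left (q_w hf a b c) ≫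
        pullback.fst _ _ ≫ ((hf b).1.fst' (f c)).left =
          pullback.fst _ _ ≫ ((hf a).1.snd (f b)).left := fun a b c => by
      rw [pullback.lift_fst_assoc, ← Over.comp_left, Functor.relativelyRepresentable.lift'_fst]
      rfl
    have key' : ∀ a b c : ι, pullback.lift (q₁ hf a b c).left (q₂ hf a b c).left (q_w hf a b c) ≫
        pullback.fst _ _ ≫ ((hf b).1.snd (f c)).left =
          pullback.snd _ _ ≫ ((hf a).1.snd (f c)).left := fun a b c => by
      rw [pullback.lift_fst_assoc, ← Over.comp_left, Functor.relativelyRepresentable.lift'_snd]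
      rfl
    have key'' : ∀ a b c : ι, pullback.lift (q₁ hf a b c).left (q₂ hf a b c).left (q_w hf a b c) ≫
        pullback.snd _ _ ≫ ((hf b).1.snd (f a)).left =
          pullback.fst _ _ ≫ ((hf a).1.fst' (f b)).left := fun a b c => by
      rw [pullback.lift_snd_assoc, ← Over.comp_left, Category.assoc,
        Functor.relativelyRepresentable.symmetry_snd]
      rfl
    have := isOpenImmersion_fst' hf i j
    have := isOpenImmersion_fst' hf i k
    have : Mono (pullback.fst ((hf i).1.fst' (f j)).left ((hf i).1.fst' (f k)).left ≫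
        ((hf i).1.fst' (f j)).left) := inferInstance
    rw [← cancel_mono (pullback.fst ((hf i).1.fst' (f j)).left ((hf i).1.fst' (f k)).left ≫
        ((hf i).1.fst' (f j)).left)]
    simp only [Category.assoc, Category.id_comp]
    rw [key k i j, key' j k i, key'' i j k]
  f_open i j := isOpenImmersion_fst' hf i j

/-- The inclusion of a chart. -/
noncomputable abbrev inc (i : ι) : (O i).left ⟶ (glueData hf).glued := (glueData hf).ι i

theorem t_w (i j : ι) : ((hf i).1.symmetry (hf j).1).left ≫ ((hf j).1.fst' (f i)).left ≫ inc hf j =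
    ((hf i).1.fst' (f j)).left ≫ inc hf i :=
  (glueData hf).glue_condition i j

theorem isPullback_inc (i j : ι) : IsPullback ((hf i).1.fst' (f j)).left
    (((hf i).1.symmetry (hf j).1).left ≫ ((hf j).1.fst' (f i)).left) (inc hf i) (inc hf j) :=
  ⟨⟨((Category.assoc _ _ _).trans (t_w hf i j)).symm⟩,
    ⟨(glueData hf).vPullbackConeIsLimit i j⟩⟩

theorem isPullback_inc' (i j : ι) :
    IsPullback ((hf i).1.fst' (f j)).left ((hf i).1.snd (f j)).left (inc hf i) (inc hf j) := by
  have h := isPullback_inc hf i j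
  rwa [← Over.comp_left, Functor.relativelyRepresentable.symmetry_fst] at h

theorem comp_of_isPullback {C : Type*} [Category C] {P A B Z Q T : C} {p : P ⟶ A} {q : P ⟶ B}
    {a : A ⟶ Z} {b : B ⟶ Z} (sq : IsPullback p q a b) (x : Q ⟶ A) (y : Q ⟶ B) (h : x ≫ a = y ≫ b)
    (u : A ⟶ T) (v : B ⟶ T) (huv : p ≫ u = q ≫ v) : x ≫ u = y ≫ v := by
  obtain ⟨l, rfl, rfl⟩ := sq.exists_lift x y h
  rw [Category.assoc, huv, Category.assoc]

theorem inc_cond (i j : ι) : pullback.fst (inc hf i) (inc hf j) ≫ (O i).hom =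
    pullback.snd (inc hf i) (inc hf j) ≫ (O j).hom :=
  comp_of_isPullback (isPullback_inc' hf i j) _ _ pullback.condition _ _
    ((Over.w ((hf i).1.fst' (f j))).trans (Over.w ((hf i).1.snd (f j))).symm)

/-- The structure map of the glued scheme. -/
theorem exists_gluedHom :
    ∃ h : (glueData hf).glued ⟶ S, ∀ i, inc hf i ≫ h = (O i).hom :=
  ⟨(glueData hf).openCover.glueMorphisms (fun i => (O i).hom) (inc_cond hf),
    fun i => Scheme.Cover.ι_glueMorphisms (glueData hf).openCover _ _ i⟩

/-- The glued scheme, over `S`. -/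
noncomputable abbrev glued : Over S := Over.mk (exists_gluedHom hf).choose

/-- The inclusion of a chart, over `S`. -/
noncomputable abbrev incS (i : ι) : O i ⟶ glued hf :=
  Over.homMk (inc hf i) ((exists_gluedHom hf).choose_spec i)

instance (i : ι) : IsOpenImmersion (incS hf i).left :=
  Scheme.GlueData.ι_isOpenImmersion (glueData hf) i

theorem exists_inc (x : ↥(glued hf).left) : ∃ (i : ι) (y : ↥(O i).left), (incS hf i).left y = x :=
  (glueData hf).ι_jointly_surjective x

/-- Maps to two charts agree in the glued scheme exactly when they agree in the sheaf. -/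
theorem inc_eq_iff {T : Over S} {i j : ι} (a : T ⟶ O i) (b : T ⟶ O j) :
    a ≫ incS hf i = b ≫ incS hf j ↔ (yon S).map a ≫ f i = (yon S).map b ≫ f j := by
  constructor
  · intro h
    have h' : a.left ≫ inc hf i = b.left ≫ inc hf j := congrArg (fun m : T ⟶ glued hf => m.left) h
    let l : T ⟶ V hf i j := Over.homMk ((isPullback_inc' hf i j).lift a.left b.left h') (by
      rw [← Over.w ((hf i).1.fst' (f j)), IsPullback.lift_fst_assoc, Over.w])
    have h₁ : l ≫ (hf i).1.fst' (f j) = a := by
      ext : 1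
      exact (isPullback_inc' hf i j).lift_fst _ _ h'
    have h₂ : l ≫ (hf i).1.snd (f j) = b := by
      ext : 1
      exact (isPullback_inc' hf i j).lift_snd _ _ h'
    rw [← h₁, ← h₂]
    simp only [Functor.map_comp, Category.assoc, ((hf i).1.isPullback' (f j)).w]
  · intro h
    rw [← (hf i).1.lift'_fst a b h]
    conv_rhs => rw [← (hf i).1.lift'_snd a b h]
    ext : 1
    simp only [Over.comp_left, Category.assoc]
    congr 1
    exact (isPullback_inc' hf i j).w

include hf in
/-- A sheaf covered by open subschemes is representable. -/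
theorem exists_scheme_iso
    (hs : ∀ (T : Over S) (a : (yon S).obj T ⟶ F) (t : ↥T.left),
      ∃ i, t ∈ Set.range ((hf i).1.snd a).left) :
    ∃ (G : Over S) (φ : (yon S).obj G ⟶ F) (inj : ∀ i, O i ⟶ G), IsIso φ ∧
      (∀ i, (yon S).map (inj i) ≫ φ = f i) ∧ (∀ i, IsOpenImmersion (inj i).left) ∧
      ∀ x, ∃ i y, (inj i).left y = x := by
  have hcov : Sieve.ofArrows O (incS hf) ∈ AlgSp.J S (glued hf) :=
    AlgSpace.ofArrows_mem_J _ _ (fun i => inferInstance) (fun i => inferInstance) (exists_inc hf)
  obtain ⟨φ, hφ, -⟩ := AlgSpace.exists_desc_of_family O (incS hf) hcov f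
    fun i j W gi gj h => (inc_eq_iff hf gi gj).1 h
  refine ⟨glued hf, φ, incS hf, ?_, hφ, fun i => inferInstance, exists_inc hf⟩
  refine AlgSpace.isIso_of_yon φ fun T => ⟨fun a b (h : a ≫ φ = b ≫ φ) => ?_, fun a => ?_⟩
  · obtain ⟨a, rfl⟩ := (yon S).map_surjective a
    obtain ⟨b, rfl⟩ := (yon S).map_surjective b
    congr 1
    ext : 1
    let U : ι × ι → T.left.Opens := fun p =>
      a.left ⁻¹ᵁ (incS hf p.1).left.opensRange ⊓ b.left ⁻¹ᵁ (incS hf p.2).left.opensRange
    refine (T.left.openCoverOfIsOpenCover U ?_).hom_ext _ _ fun p => ?_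
    · refine TopologicalSpace.IsOpenCover.mk (eq_top_iff.2 fun t _ => ?_)
      obtain ⟨i, y, hy⟩ := exists_inc hf (a.left t)
      obtain ⟨j, z, hz⟩ := exists_inc hf (b.left t)
      exact TopologicalSpace.Opens.mem_iSup.2 ⟨(i, j), ⟨y, hy⟩, ⟨z, hz⟩⟩
    let TU : Over S := Over.mk ((U p).ι ≫ T.hom)
    let u : TU ⟶ T := Over.homMk (U p).ι rfl
    have ha : Set.range (u ≫ a).left ⊆ Set.range (incS hf p.1).left := by
      rintro _ ⟨t, rfl⟩; exact t.2.1
    have hb : Set.range (u ≫ b).left ⊆ Set.range (incS hf p.2).left := by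
      rintro _ ⟨t, rfl⟩; exact t.2.2
    let la : TU ⟶ O p.1 := Over.homMk (IsOpenImmersion.lift (incS hf p.1).left (u ≫ a).left ha)
      (by rw [← Over.w (incS hf p.1), IsOpenImmersion.lift_fac_assoc, Over.w])
    let lb : TU ⟶ O p.2 := Over.homMk (IsOpenImmersion.lift (incS hf p.2).left (u ≫ b).left hb)
      (by rw [← Over.w (incS hf p.2), IsOpenImmersion.lift_fac_assoc, Over.w])
    have hla : la ≫ incS hf p.1 = u ≫ a := by ext : 1; exact IsOpenImmersion.lift_fac _ _ ha
    have hlb : lb ≫ incS hf p.2 = u ≫ b := by ext : 1; exact IsOpenImmersion.lift_fac _ _ hb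
    have : la ≫ incS hf p.1 = lb ≫ incS hf p.2 := (inc_eq_iff hf la lb).2 (by
      rw [← hφ p.1, ← hφ p.2, ← Functor.map_comp_assoc, ← Functor.map_comp_assoc, hla, hlb,
        Functor.map_comp_assoc, Functor.map_comp_assoc, h])
    rw [hla, hlb] at this
    exact congrArg (fun m : TU ⟶ glued hf => m.left) this
  · have hu : ∀ i, IsOpenImmersion ((hf i).1.snd a).left := fun i =>
      (hf i).2 a _ _ ((hf i).1.isPullback a)
    have hcT : Sieve.ofArrows (fun i => (hf i).1.pullback a) (fun i => (hf i).1.snd a) ∈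
        AlgSp.J S T :=
      AlgSpace.ofArrows_mem_J _ _ (fun i => have := hu i; inferInstance)
        (fun i => have := hu i; inferInstance) fun t => by
          obtain ⟨i, y, hy⟩ := hs T a t; exact ⟨i, y, hy⟩
    choose y hy using fun i => (yon S).map_surjective ((hf i).1.fst a)
    have hw : ∀ i, (yon S).map (y i) ≫ f i = (yon S).map ((hf i).1.snd a) ≫ a := fun i => by
      rw [hy]; exact (hf i).1.w a
    obtain ⟨b, hb, -⟩ := AlgSpace.exists_desc_of_family _ _ hcT
      (fun i => (yon S).map (y i ≫ incS hf i)) (fun i j W gi gj h => by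
        rw [← Functor.map_comp, ← Functor.map_comp, ← Category.assoc, ← Category.assoc,
          (inc_eq_iff hf (gi ≫ y i) (gj ≫ y j)).2]
        rw [Functor.map_comp_assoc, Functor.map_comp_assoc, hw, hw, ← Functor.map_comp_assoc,
          ← Functor.map_comp_assoc, h])
    refine ⟨b, ?_⟩
    have := (AlgSpace.exists_desc_of_family _ _ hcT
      (fun i => (yon S).map ((hf i).1.snd a) ≫ a) (fun i j W gi gj h => by
        rw [← Functor.map_comp_assoc, ← Functor.map_comp_assoc, h]))
    refine this.unique (fun i => ?_) fun i => rfl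
    rw [← Category.assoc, hb i, Functor.map_comp, Category.assoc, hφ i, hw i]

end Groth.Agent.Lib.UnivThick.OpenCover
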