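import Groth.Agent.S10630
import Groth.Agent.Lib.AlgSpFormal.InfNbhd
import Groth.Agent.Lib.AlgSpFormal.UnivDesc
import Groth.Agent.Lib.AlgSpFormal.ThickTopo
import Groth.Agent.Lib.AlgSpFormal.UnivEtale
import Groth.Agent.Lib.AlgSpace.Quot
import Groth.Agent.Lib.AlgSpMor.RepDescent

/-!
# Universal first order thickenings glue along etale coverings
-/

universe u

open CategoryTheory CategoryTheory.Limits AlgebraicGeometry Opposite AlgSp
open Groth.Agent.Lib.AlgSpFormal

namespace Groth.Agent.Lib.UnivThick.Glue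

variable {S : Scheme.{u}}

/-- An etale map of schemes is an etale morphism of sheaves. -/
theorem isEtaleMor_yon_map {U V : Over S} {g : U ⟶ V} (h : Etale g.left) :
    IsEtaleMor ((yon S).map g) :=
  fun _ _ hφ => AlgSpace.repWith_comp hφ (AlgSpace.repWith_etale_yon_map h)

/-- The converse of `isEtaleMor_yon_map`. -/
theorem etale_of_isEtaleMor {U V : Over S} {g : U ⟶ V} (h : IsEtaleMor ((yon S).map g)) :
    Etale g.left := by
  have : MorphismProperty.ContainsIdentities (@Etale : MorphismProperty Scheme.{u}) :=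
    ⟨fun X => inferInstanceAs (Etale (𝟙 X))⟩
  have h' := h (𝟙 _) (repWith_id _ U)
  rw [Category.id_comp] at h'
  exact (AlgSp.repWith_yon_map_iff _ g).1 h'

theorem formallyEtale_id (F : Sp S) : IsFormallyEtaleMor (𝟙 F) := fun sq =>
  ⟨sq.bot, ⟨(sq.comm.symm.trans (Category.comp_id sq.top)), Category.comp_id _⟩,
    fun l hl => (Category.comp_id l).symm.trans hl.2⟩

/-- Etale maps of thickened schemes are cartesian. -/
theorem isPullback_of_etale {R R' V V' : Scheme.{u}} {s : R ⟶ V} {iR : R ⟶ R'} {iV : V ⟶ V'}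
    {s' : R' ⟶ V'} (w : s ≫ iV = iR ≫ s') [Etale s] [Etale s'] [IsClosedImmersion iR]
    [Surjective iR] [IsClosedImmersion iV] : IsPullback s iR iV s' := by
  let k := pullback.lift s iR w
  have hk₁ : k ≫ pullback.fst iV s' = s := pullback.lift_fst _ _ _
  have hk₂ : k ≫ pullback.snd iV s' = iR := pullback.lift_snd _ _ _
  have : IsClosedImmersion (k ≫ pullback.snd iV s') := by rw [hk₂]; infer_instance
  have : IsClosedImmersion k := IsClosedImmersion.of_comp k (pullback.snd iV s')
  have : Etale k := MorphismProperty.of_postcomp (W := @Etale) (W' := @Etale) k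
    (pullback.fst iV s') inferInstance (by rw [hk₁]; infer_instance)
  have : IsOpenImmersion k := IsOpenImmersion.of_flat_of_mono k
  have : Surjective k := ⟨fun p => by
    obtain ⟨r, hr⟩ := iR.surjective (pullback.snd iV s' p)
    refine ⟨r, (pullback.snd iV s').isClosedEmbedding.injective ?_⟩
    rw [← hr, ← Scheme.Hom.comp_apply, hk₂]⟩
  have : IsIso k := (isIso_iff_isOpenImmersion_and_surjective k).2 ⟨inferInstance, inferInstance⟩
  exact (IsPullback.of_hasPullback iV s').of_iso (asIso k).symm (Iso.refl _) (Iso.refl _)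
    (Iso.refl _) (by simp [k]; exact pullback.lift_fst _ _ _) (by simp [k]; exact pullback.lift_snd _ _ _) (by simp) (by simp)

variable {X Z : Sp S} {h : Z ⟶ X}

/-- Universal first order thickenings of the members of an etale presentation glue. -/
theorem exists_univ (hX : IsAlgSpace X) (hZ : IsAlgSpace Z) {V R : Over S}
    {v : (yon S).obj V ⟶ Z} (hv : RepWith @Etale v) (hvs : RepWith @Surjective v) {s t : R ⟶ V}
    (hR : IsPullback ((yon S).map s) ((yon S).map t) v v)
    {V' : Over S} {iV : V ⟶ V'} {hV' : (yon S).obj V' ⟶ X}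
    (HV : IsUnivFOThick (v ≫ h) ((yon S).map iV) hV')
    {R' : Over S} {iR : R ⟶ R'} {hR' : (yon S).obj R' ⟶ X}
    (HR : IsUnivFOThick ((yon S).map s ≫ v ≫ h) ((yon S).map iR) hR') :
    ∃ (Z' : Sp S) (iZ : Z ⟶ Z') (h' : Z' ⟶ X), IsAlgSpace Z' ∧ IsUnivFOThick h iZ h' := by
  have aV := IsAlgSpace.yon_obj V
  have aV' := IsAlgSpace.yon_obj V'
  have aR := IsAlgSpace.yon_obj R
  have aR' := IsAlgSpace.yon_obj R'
  obtain ⟨s'y, ⟨hs₁, hs₂⟩, -⟩ := HV.2.2 aR aR' _ ((yon S).map s) hR' HR.1 HR.2.1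
  obtain ⟨s', rfl⟩ := (yon S).map_surjective s'y
  obtain ⟨t'y, ⟨ht₁, ht₂⟩, -⟩ := HV.2.2 aR aR' _ ((yon S).map t) hR' HR.1
    (by rw [HR.2.1, reassoc_of% hR.w])
  obtain ⟨t', rfl⟩ := (yon S).map_surjective t'y
  have hs : Etale s.left := AlgSpace.repWith_property hv hR.flip
  have ht : Etale t.left := AlgSpace.repWith_property hv hR
  have hs' : Etale s'.left := etale_of_isEtaleMor (UnivEtale.isEtaleMor_map HV aV' aR aR'
    (isEtaleMor_yon_map hs) (formallyEtale_id X) (Category.comp_id _) HR _ hs₁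
    (hs₂.trans (Category.comp_id _).symm))
  have ht' : Etale t'.left := etale_of_isEtaleMor (UnivEtale.isEtaleMor_map HV aV' aR aR'
    (isEtaleMor_yon_map ht) (formallyEtale_id X)
    (ψ := (yon S).map s ≫ v ≫ h) (by rw [Category.comp_id, reassoc_of% hR.w]) HR _ ht₁
    (ht₂.trans (Category.comp_id _).symm))
  have es : s ≫ iV = iR ≫ s' := (yon S).map_injective (by simp [hs₁])
  have et : t ≫ iV = iR ≫ t' := (yon S).map_injective (by simp [ht₁])
  have : IsClosedImmersion iR.left := ((isThickMor_yon_map_iff iR).1 HR.1.1).1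
  have : Surjective iR.left := ((isThickMor_yon_map_iff iR).1 HR.1.1).2
  have : IsClosedImmersion iV.left := ((isThickMor_yon_map_iff iV).1 HV.1.1).1
  have sqs : IsPullback s iR iV s' := IsPullback.of_map_of_faithful (Over.forget S)
    (isPullback_of_etale (s := s.left) (s' := s'.left) (iV := iV.left) (iR := iR.left) (congrArg (fun m : R ⟶ V' => m.left) es))
  have sqt : IsPullback t iR iV t' := IsPullback.of_map_of_faithful (Over.forget S)
    (isPullback_of_etale (s := t.left) (s' := t'.left) (iV := iV.left) (iR := iR.left) (congrArg (fun m : R ⟶ V' => m.left) et))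
  have : Mono iV.left := inferInstance
  have : Mono iV := (Over.forget S).mono_of_mono_map ‹_›
  have : Mono iR := (Over.forget S).mono_of_mono_map (inferInstanceAs (Mono iR.left))
  have hRinj : ∀ {T : Over S} (a a' : T ⟶ R), a ≫ s = a' ≫ s → a ≫ t = a' ≫ t → a = a' :=
    fun a a' e₁ e₂ => (yon S).map_injective (hR.hom_ext (by rw [← Functor.map_comp, e₁,
      Functor.map_comp]) (by rw [← Functor.map_comp, e₂, Functor.map_comp]))
  have hinj : ∀ (T : Over S) (r r' : T ⟶ R'), r ≫ t' = r' ≫ t' → r ≫ s' = r' ≫ s' → r = r' := by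
    intro T r r' e₂ e₁
    have sq₁ := (IsPullback.of_hasPullback iR r).paste_horiz sqs
    have sq₂ := (IsPullback.of_hasPullback iR r').paste_horiz sqs
    rw [e₁] at sq₁
    let e := sq₁.isoIsPullback _ _ sq₂
    have h₁ := sq₁.isoIsPullback_hom_fst _ _ sq₂
    have h₂ := sq₁.isoIsPullback_hom_snd _ _ sq₂
    have ha : pullback.fst iR r = e.hom ≫ pullback.fst iR r' := by
      refine hRinj _ _ (by rw [Category.assoc, h₁]) ?_
      rw [← cancel_mono iV]
      simp only [Category.assoc, et, pullback.condition_assoc, e₂]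
      rw [reassoc_of% h₂]
    have hb : pullback.snd iR r ≫ r = pullback.snd iR r ≫ r' := by
      rw [← pullback.condition, ha, Category.assoc, pullback.condition, reassoc_of% h₂]
    have hF := ThickBC.isFOThickMor_of_isPullback HR.1 aR'
      (AlgSpace.isPullback_yon (IsPullback.of_hasPullback iR r))
    apply (yon S).map_injective
    exact (HR.2.2 (IsAlgSpace.yon_obj _) (IsAlgSpace.yon_obj _) _ ((yon S).map (pullback.fst iR r))
      ((yon S).map r ≫ hR') hF (by
        rw [← AlgSpace.isPullback_yon (IsPullback.of_hasPullback iR r) |>.w_assoc, HR.2.1])).unique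
      ⟨(AlgSpace.isPullback_yon (IsPullback.of_hasPullback iR r)).w.symm, rfl⟩
      ⟨by rw [← Functor.map_comp, ← hb, ← pullback.condition, Functor.map_comp],
        by rw [← hs₂, ← Functor.map_comp_assoc, ← e₁, Functor.map_comp_assoc]⟩
  have hrel : ∀ {T : Over S} (x y : T ⟶ V'), (∃ r : T ⟶ R', r ≫ t' = x ∧ r ≫ s' = y) ↔
      ((yon S).map x ≫ hV' = (yon S).map y ≫ hV' ∧ ∃ (T₀ : Over S) (j : T₀ ⟶ T) (a : T₀ ⟶ R),
        IsPullback (a ≫ t) j iV x ∧ IsPullback (a ≫ s) j iV y) := by
    intro T x y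
    constructor
    · rintro ⟨r, rfl, rfl⟩
      refine ⟨by simp only [Functor.map_comp, Category.assoc, hs₂, ht₂], _, pullback.snd iR r,
        pullback.fst iR r, (IsPullback.of_hasPullback iR r).paste_horiz sqt,
        (IsPullback.of_hasPullback iR r).paste_horiz sqs⟩
    · rintro ⟨hxy, T₀, j, a, sqx, sqy⟩
      have hF := ThickBC.isFOThickMor_of_isPullback HV.1 aV' (AlgSpace.isPullback_yon sqx)
      have hb : (yon S).map j ≫ (yon S).map x ≫ hV' = (yon S).map a ≫ (yon S).map s ≫ v ≫ h := by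
        rw [← Functor.map_comp_assoc, ← sqx.w, Functor.map_comp_assoc, HV.2.1, Functor.map_comp,
          Category.assoc, reassoc_of% hR.w]
      obtain ⟨ry, ⟨hr₁, hr₂⟩, -⟩ := HR.2.2 (IsAlgSpace.yon_obj _) (IsAlgSpace.yon_obj _) _ _ _ hF hb
      obtain ⟨r, rfl⟩ := (yon S).map_surjective ry
      have hr₁' : j ≫ r = a ≫ iR := (yon S).map_injective (by simpa using hr₁)
      refine ⟨r, (yon S).map_injective ?_, (yon S).map_injective ?_⟩
      · refine (HV.2.2 (IsAlgSpace.yon_obj _) (IsAlgSpace.yon_obj _) _ ((yon S).map (a ≫ t))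
          ((yon S).map x ≫ hV') hF ?_).unique ⟨?_, ?_⟩ ⟨?_, rfl⟩
        · rw [hb, Functor.map_comp, Category.assoc, reassoc_of% hR.w]
        · rw [← Functor.map_comp, reassoc_of% hr₁', ← et]
          simp
        · rw [Functor.map_comp, Category.assoc, ht₂, hr₂]
        · rw [← Functor.map_comp, ← Functor.map_comp, ← sqx.w]
      · refine (HV.2.2 (IsAlgSpace.yon_obj _) (IsAlgSpace.yon_obj _) _ ((yon S).map (a ≫ s))
          ((yon S).map x ≫ hV') hF ?_).unique ⟨?_, ?_⟩ ⟨?_, hxy.symm⟩
        · rw [hb, Functor.map_comp, Category.assoc]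
        · rw [← Functor.map_comp, reassoc_of% hr₁', ← es]
          simp
        · rw [Functor.map_comp, Category.assoc, hs₂, hr₂]
        · rw [← Functor.map_comp, ← Functor.map_comp, ← sqy.w]
  have hER : IsEtaleEqvRel s' t' := by
    refine { injective := hinj, equivalence := fun T => ⟨fun x => ?_, fun {x y} hxy => ?_,
      fun {x y z} hxy hyz => ?_⟩, etale_left := hs', etale_right := ht' }
    · let x₀ := pullback.fst iV x
      obtain ⟨a, ha⟩ := (yon S).map_surjective
        (hR.lift ((yon S).map x₀) ((yon S).map x₀) rfl)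
      have h₁ : a ≫ s = x₀ := (yon S).map_injective (by rw [Functor.map_comp, ha, hR.lift_fst])
      have h₂ : a ≫ t = x₀ := (yon S).map_injective (by rw [Functor.map_comp, ha, hR.lift_snd])
      exact (hrel x x).2 ⟨rfl, _, pullback.snd iV x, a, by rw [h₂]; exact .of_hasPullback iV x,
        by rw [h₁]; exact .of_hasPullback iV x⟩
    · obtain ⟨e, T₀, j, a, sqx, sqy⟩ := (hrel x y).1 hxy
      obtain ⟨a', ha'⟩ := (yon S).map_surjective (hR.lift ((yon S).map (a ≫ t)) ((yon S).map (a ≫ s))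
        (by simp [hR.w]))
      have h₁ : a' ≫ s = a ≫ t := (yon S).map_injective (by rw [Functor.map_comp, ha', hR.lift_fst])
      have h₂ : a' ≫ t = a ≫ s := (yon S).map_injective (by rw [Functor.map_comp, ha', hR.lift_snd])
      exact (hrel y x).2 ⟨e.symm, T₀, j, a', by rw [h₂]; exact sqy, by rw [h₁]; exact sqx⟩
    · obtain ⟨e₁, T₀, j, a, sqx, sqy⟩ := (hrel x y).1 hxy
      obtain ⟨e₂, T₁, j₁, b, sqy', sqz⟩ := (hrel y z).1 hyz
      let φ := sqy.isoIsPullback _ _ sqy'
      have hφ₁ := sqy.isoIsPullback_hom_fst _ _ sqy'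
      have hφ₂ := sqy.isoIsPullback_hom_snd _ _ sqy'
      obtain ⟨c, hc⟩ := (yon S).map_surjective
        (hR.lift ((yon S).map (φ.hom ≫ b ≫ s)) ((yon S).map (a ≫ t)) (by
          calc (yon S).map (φ.hom ≫ b ≫ s) ≫ v = (yon S).map (φ.hom ≫ b ≫ t) ≫ v := by
                simp [hR.w]
            _ = (yon S).map (a ≫ s) ≫ v := by rw [hφ₁]
            _ = (yon S).map (a ≫ t) ≫ v := by simp [hR.w]))
      have h₁ : c ≫ s = φ.hom ≫ b ≫ s := (yon S).map_injective (by rw [Functor.map_comp, hc, hR.lift_fst])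
      have h₂ : c ≫ t = a ≫ t := (yon S).map_injective (by rw [Functor.map_comp, hc, hR.lift_snd])
      refine (hrel x z).2 ⟨e₁.trans e₂, T₀, j, c, by rw [h₂]; exact sqx, ?_⟩
      rw [h₁]
      exact sqz.of_iso φ.symm (Iso.refl _) (Iso.refl _) (Iso.refl _) (by simp)
        (by rw [← hφ₂]; simp [φ]) (by simp) (by simp)
  have hP := AlgSpace.isPresentation_quot hER
  have aZ' := AlgSpace.isAlgSpace_quot hER
  have := AlgSpace.isLocallySurjective_quotMap s' t'
  have := AlgSpace.isLocallySurjective_of_etale hv hvs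
  set p := AlgSpace.quotMap s' t'
  have hp : (yon S).map s' ≫ p = (yon S).map t' ≫ p := AlgSpace.quotMap_condition s' t'
  obtain ⟨iZ, hiZ⟩ := AlgSpace.exists_desc v hR ((yon S).map iV ≫ p) (by
    rw [← Functor.map_comp_assoc, es, Functor.map_comp_assoc, hp, ← Functor.map_comp_assoc, ← et,
      Functor.map_comp_assoc])
  obtain ⟨h', hh'⟩ := AlgSpace.exists_desc p hP.isPullback hV' (by rw [ht₂, hs₂])
  have hw : iZ ≫ h' = h := by
    rw [← cancel_epi v, reassoc_of% hiZ, hh', HV.2.1]
  have sqZ : IsPullback v ((yon S).map iV) iZ p := by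
    let c : (yon S).obj V ⟶ pullback iZ p := pullback.lift v ((yon S).map iV) hiZ
    have : Mono ((yon S).map iV) := ThickTopo.mono_of_thick HV.1.1
    have : Mono (c ≫ pullback.snd iZ p) := by rw [pullback.lift_snd]; infer_instance
    have : Mono c := mono_of_mono c (pullback.snd iZ p)
    have : Sheaf.IsLocallySurjective c := AlgSpace.isLocallySurjective_of_lift _ fun T ξ => by
      obtain ⟨T₁, q, w₀, hq, hw₀⟩ :=
        AlgSpace.exists_lift_of_isLocallySurjective v (ξ ≫ pullback.fst iZ p)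
      obtain ⟨w, rfl⟩ := (yon S).map_surjective w₀
      obtain ⟨x, hx⟩ := (yon S).map_surjective (ξ ≫ pullback.snd iZ p)
      obtain ⟨r, hr⟩ := (yon S).map_surjective (hP.isPullback.lift ((yon S).map (q ≫ x))
        ((yon S).map (w ≫ iV)) (by
          rw [Functor.map_comp, Functor.map_comp, Category.assoc, Category.assoc, ← hiZ, hx,
            reassoc_of% hw₀, Category.assoc, pullback.condition]))
      have h₁ : r ≫ t' = q ≫ x :=
        (yon S).map_injective (by rw [Functor.map_comp, hr, hP.isPullback.lift_fst])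
      have h₂ : r ≫ s' = w ≫ iV :=
        (yon S).map_injective (by rw [Functor.map_comp, hr, hP.isPullback.lift_snd])
      obtain ⟨a, ha₁, ha₂⟩ := sqs.exists_lift w r h₂.symm
      refine ⟨T₁, q, (yon S).map (a ≫ t), hq, pullback.hom_ext ?_ ?_⟩
      · rw [Category.assoc, Category.assoc, pullback.lift_fst, Functor.map_comp, Category.assoc,
          ← hR.w, ← Functor.map_comp_assoc, ha₁, hw₀]
      · rw [Category.assoc, Category.assoc, pullback.lift_snd, ← hx, ← Functor.map_comp,
          ← Functor.map_comp, ← h₁, Category.assoc, et, reassoc_of% ha₂]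
    have : Epi c := (Sheaf.isLocallySurjective_iff_epi' (Type (u + 1)) c).1 ‹_›
    have : IsIso c := isIso_of_mono_of_epi c
    exact (IsPullback.of_hasPullback iZ p).of_iso (asIso c).symm (Iso.refl _) (Iso.refl _)
      (Iso.refl _) (by simp [c]; exact pullback.lift_fst _ _ _) (by simp [c]; exact pullback.lift_snd _ _ _) (by simp) (by simp)
  have := AlgSpMor.Sep.isLocalAtTarget_fppf_isClosedImmersion.{u}
  have := AlgSpace.isLocalAtTarget_fppf_surjective.{u}
  have hcl : RepWith @IsClosedImmersion iZ := AlgSpMor.RepDescent.repWith_of_cover _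
    AlgSpMor.RepDescent.effective_isClosedImmersion aZ'.diag hP.etale hP.surjective sqZ
    ((AlgSp.repWith_yon_map_iff _ iV).2 inferInstance)
  have hsu : RepWith @Surjective iZ := AlgSpace.repWith_of_isLocallySurjective hcl.1 p sqZ _
    ((AlgSp.repWith_yon_map_iff _ iV).2 ((isThickMor_yon_map_iff iV).1 HV.1.1).2)
  have hthick : IsThickMor iZ :=
    ⟨hcl.1, fun _ _ c fst snd sq => ⟨hcl.2 c fst snd sq, hsu.2 c fst snd sq⟩⟩
  have hFO : IsFOThickMor iZ := ⟨hthick, fun B W c fst snd hB _ sq => by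
    have := hB
    have : IsClosedImmersion snd.left := hcl.2 c fst snd sq
    refine Yon.ker_mul_ker_eq_bot _ (InfNbhd.ker_pow_eq_bot_of_cover hcl 2 sq fun x => ?_)
    have sqp := hP.etale.1.isPullback c
    have : Etale (hP.etale.1.snd c).left := hP.etale.2 c _ _ sqp
    have : Surjective (hP.etale.1.snd c).left := hP.surjective.2 c _ _ sqp
    obtain ⟨y, rfl⟩ := (hP.etale.1.snd c).left.surjective x
    obtain ⟨_, ⟨O, hO, rfl⟩, hyO, -⟩ := (hP.etale.1.pullback c).left.isBasis_affineOpens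
      |>.exists_subset_of_mem_open (Set.mem_univ y) isOpen_univ
    let OS : Over S := Over.mk (Scheme.Opens.ι O ≫ (hP.etale.1.pullback c).hom)
    let o : OS ⟶ hP.etale.1.pullback c := Over.homMk (Scheme.Opens.ι O) rfl
    obtain ⟨k, hk⟩ := (yon S).map_surjective ((yon S).map o ≫ hP.etale.1.fst c)
    have : IsAffine OS.left := hO
    refine ⟨OS, o ≫ hP.etale.1.snd c, hO,
      inferInstanceAs (Etale (Scheme.Opens.ι O ≫ (hP.etale.1.snd c).left)), ⟨⟨y, hyO⟩, rfl⟩, ?_⟩
    have sq' := hcl.1.isPullback ((yon S).map (o ≫ hP.etale.1.snd c) ≫ c)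
    have e : (yon S).map (o ≫ hP.etale.1.snd c) ≫ c = (yon S).map k ≫ p := by
      rw [Functor.map_comp, Category.assoc, ← hP.etale.1.w c, hk, Category.assoc]
    obtain ⟨m, hm⟩ := (yon S).map_surjective (sqZ.lift (hcl.1.fst _)
      ((yon S).map (hcl.1.snd ((yon S).map (o ≫ hP.etale.1.snd c) ≫ c) ≫ k)) (by
        rw [sq'.w, e, Functor.map_comp, Category.assoc]))
    have sqk : IsPullback ((yon S).map m)
        ((yon S).map (hcl.1.snd ((yon S).map (o ≫ hP.etale.1.snd c) ≫ c)))
        ((yon S).map iV) ((yon S).map k) := by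
      refine IsPullback.of_right (t := sqZ) ?_ ?_
      · rw [hm, sqZ.lift_fst]
        exact e ▸ sq'
      · rw [hm, sqZ.lift_snd]
        exact Functor.map_comp _ _ _
    exact (ThickBC.ker_sq_of_affine HV.1 aV' sqk).2⟩
  refine ⟨_, iZ, h', aZ', (Groth.Agent.S10630.result (Z := ⟨Z, hZ⟩) (Z' := ⟨_, aZ'⟩) (X := ⟨X, hX⟩)
    (ObjectProperty.homMk h) (ObjectProperty.homMk iZ) (ObjectProperty.homMk h') hFO
    (by ext : 1; exact hw)).2 fun T T' j hT' hj a b hab => ?_⟩
  have HU : IsUnivFOThick (v ≫ h) ((yon S).map iV) (p ≫ h') := by rw [hh']; exact HV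
  have := hT'
  have hφ : RepWith @Etale (𝟙 ((yon S).obj V) ≫ v) := by rwa [Category.id_comp]
  have hφs : Function.Surjective (Points.ofPt (𝟙 ((yon S).obj V) ≫ v)) := by
    rw [Category.id_comp]; exact AlgSpace.surjective_ofPt hvs
  have hpe := Yon.isFormallyEtaleMor_of_etale hP.etale
  obtain ⟨l, hl₁, hl₂⟩ := UnivDesc.exists_affine hpe hw sqZ.w.symm HU hφ hφs j hj a b hab
  exact ⟨l, ⟨hl₁, hl₂⟩, fun l' hl' => UnivDesc.unique_affine hpe hw sqZ.w.symm HU hφ hφs j hj a l' l
    hl'.1 hl₁ (hl'.2.trans hl₂.symm)⟩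

end Groth.Agent.Lib.UnivThick.Glue
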