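import Groth.Agent.Lib.UnivThick.Ring
import Groth.Agent.Lib.UnivThick.Glue

/-!
# Universal first order thickenings of affine etale charts
-/

universe u

open CategoryTheory CategoryTheory.Limits AlgebraicGeometry Opposite AlgSp
open Groth.Agent.Lib.AlgSpFormal

namespace Groth.Agent.Lib.UnivThick.Affine

variable {S : Scheme.{u}}

/-- Maps to an affine scheme from ring maps. -/
theorem exists_hom_appTop {T Y : Scheme.{u}} [IsAffine Y] (φ : Γ(Y, ⊤) ⟶ Γ(T, ⊤)) :
    ∃ m : T ⟶ Y, m.appTop = φ := by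
  refine ⟨T.toSpecΓ ≫ Spec.map φ ≫ Y.isoSpec.inv, ?_⟩
  have h : Y.isoSpec.inv.appTop ≫ (Scheme.ΓSpecIso Γ(Y, ⊤)).hom = 𝟙 _ := by
    rw [← Scheme.toSpecΓ_appTop, ← Scheme.Hom.comp_appTop]
    simp [Scheme.isoSpec]
  simp only [Scheme.Hom.comp_appTop, Category.assoc, Scheme.toSpecΓ_appTop,
    Scheme.ΓSpecIso_naturality]
  rw [reassoc_of% h]

set_option maxHeartbeats 1000000 in
/-- An unramified map of affine etale charts has a universal first order thickening. -/
theorem exists_univ_affine {X : Sp S} (hX : IsAlgSpace X) {O Q : Over S} [IsAffine O.left]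
    [IsAffine Q.left] (ψ : O ⟶ Q) [hψ : FormallyUnramified ψ.left] {w : (yon S).obj Q ⟶ X}
    (hw : IsFormallyEtaleMor w) :
    ∃ (O' : Over S) (i : O ⟶ O') (h' : (yon S).obj O' ⟶ X),
      IsAffine O'.left ∧ IsUnivFOThick ((yon S).map ψ ≫ w) ((yon S).map i) h' := by
  let A := Γ(Q.left, ⊤)
  let B := Γ(O.left, ⊤)
  algebraize [ψ.left.appTop.hom]
  have : Algebra.FormallyUnramified A B :=
    (HasRingHomProperty.iff_of_isAffine (P := @FormallyUnramified)).1 hψ
  obtain ⟨B', _, _, π, hπs, hπk, hπu⟩ := Ring.exists_univ (R := A) (S := B)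
  let e := Scheme.ΓSpecIso (CommRingCat.of B')
  obtain ⟨g, hg⟩ := exists_hom_appTop (T := Spec (CommRingCat.of B')) (Y := Q.left)
    (CommRingCat.ofHom (algebraMap A B') ≫ e.inv)
  let O' : Over S := Over.mk (g ≫ Q.hom)
  have : IsAffine O'.left := inferInstanceAs (IsAffine (Spec _))
  let gO : O' ⟶ Q := Over.homMk g rfl
  obtain ⟨i₀, hi₀⟩ := exists_hom_appTop (T := O.left) (Y := Spec (CommRingCat.of B'))
    (e.hom ≫ CommRingCat.ofHom π.toRingHom)
  have hig : i₀ ≫ g = ψ.left := ext_of_isAffine (by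
    rw [Scheme.Hom.comp_appTop, hg, hi₀, Category.assoc, e.inv_hom_id_assoc]
    ext x
    exact π.commutes x)
  let i : O ⟶ O' := Over.homMk i₀ (by
    change i₀ ≫ g ≫ Q.hom = O.hom
    rw [reassoc_of% hig, Over.w ψ])
  have hi : i ≫ gO = ψ := by ext : 1; exact hig
  have hes : Function.Surjective e.hom.hom := (ConcreteCategory.bijective_of_isIso e.hom).2
  have : IsClosedImmersion i.left := IsClosedImmersion.of_surjective_of_isAffine i.left (by
    rw [show i.left.appTop = _ from hi₀]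
    exact hπs.comp hes)
  have hker : RingHom.ker i.left.appTop.hom ^ 2 = ⊥ := by
    rw [show i.left.appTop = _ from hi₀, pow_two, eq_bot_iff, Ideal.mul_le]
    intro x hx y hy
    have h' := Ideal.mul_mem_mul (I := RingHom.ker π.toRingHom) (J := RingHom.ker π.toRingHom)
      (r := e.hom.hom x) (s := e.hom.hom y) hx hy
    rw [← pow_two, hπk, Ideal.mem_bot, ← map_mul] at h'
    exact Ideal.mem_bot.2 ((map_eq_zero_iff _ (ConcreteCategory.bijective_of_isIso e.hom).1).1 h')
  have hFO : IsFOThickMor ((yon S).map i) := Yon.isFOThickMor_yon_map i hker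
  refine ⟨O', i, (yon S).map gO ≫ w, inferInstance, ?_⟩
  refine (Groth.Agent.S10630.result (Z := ⟨_, IsAlgSpace.yon_obj O⟩)
    (Z' := ⟨_, IsAlgSpace.yon_obj O'⟩) (X := ⟨X, hX⟩) (ObjectProperty.homMk ((yon S).map ψ ≫ w))
    (ObjectProperty.homMk ((yon S).map i)) (ObjectProperty.homMk ((yon S).map gO ≫ w)) hFO
    (by ext : 1; exact (by rw [← Functor.map_comp_assoc, hi] :
      (yon S).map i ≫ (yon S).map gO ≫ w = (yon S).map ψ ≫ w))).2 fun T T' j hT' hj a b hab => ?_
  obtain ⟨a, rfl⟩ := (yon S).map_surjective (X := T) (Y := O) a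
  have := hT'
  have : IsClosedImmersion j.left := ((isThickMor_yon_map_iff j).1 hj.1).1
  have hjk := Yon.ker_appTop_sq_of_ker_mul_ker j.left (AffLocT.yon_map hT' hj.2)
  obtain ⟨cy, ⟨hc₁, hc₂⟩, hcu⟩ := Yon.lift_existsUnique_of_affine hw j hjk
    ((yon S).map (a ≫ ψ)) b (hab.trans (by
      change (yon S).map a ≫ (yon S).map ψ ≫ w = _
      rw [Functor.map_comp, Category.assoc]))
  obtain ⟨c, rfl⟩ := (yon S).map_surjective cy
  have hc₁' : j ≫ c = a ≫ ψ := (yon S).map_injective (((yon S).map_comp _ _).trans hc₁)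
  let C := Γ(T'.left, ⊤)
  let C₀ := Γ(T.left, ⊤)
  let q : C →+* C₀ := j.left.appTop.hom
  algebraize [c.left.appTop.hom, q.comp c.left.appTop.hom]
  have hq : Function.Surjective q := j.left.app_surjective ⊤ (isAffineOpen_top _)
  let qa : C →ₐ[A] C₀ := { q with commutes' := fun _ => rfl }
  let ε : (C ⧸ RingHom.ker qa) ≃ₐ[A] C₀ := Ideal.quotientKerAlgEquivOfSurjective hq
  let aa : B →ₐ[A] C₀ :=
    { a.left.appTop.hom with
      commutes' := fun x => by
        have h := congrArg (fun m : T ⟶ Q => m.left.appTop) hc₁'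
        simp only [Over.comp_left, Scheme.Hom.comp_appTop] at h
        exact (congrArg (fun f => f.hom x) h).symm }
  obtain ⟨φ, hφ, hφu⟩ := hπu C (RingHom.ker qa) hjk (ε.symm.toAlgHom.comp aa)
  have hiff : ∀ ρ : B' →ₐ[A] C, (Ideal.Quotient.mkₐ A (RingHom.ker qa)).comp ρ =
      (ε.symm.toAlgHom.comp aa).comp π ↔ ∀ x, q (ρ x) = aa (π x) := by
    intro ρ
    constructor
    · intro h x
      have := congrArg ε (AlgHom.congr_fun h x)
      exact this.trans (ε.apply_symm_apply _)
    · intro h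
      ext x
      apply ε.injective
      exact (h x).trans (ε.apply_symm_apply _).symm
  obtain ⟨l₀, hl₀⟩ := exists_hom_appTop (T := T'.left) (Y := O'.left)
    (e.hom ≫ CommRingCat.ofHom φ.toRingHom)
  have hlg : l₀ ≫ g = c.left := ext_of_isAffine (by
    rw [Scheme.Hom.comp_appTop, hg, hl₀, Category.assoc, e.inv_hom_id_assoc]
    ext x
    exact φ.commutes x)
  let l : T' ⟶ O' := Over.homMk l₀ (by
    change l₀ ≫ g ≫ Q.hom = _
    rw [reassoc_of% hlg, Over.w c])
  have hl₁ : j ≫ l = a ≫ i := by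
    ext : 1
    refine ext_of_isAffine ?_
    rw [Over.comp_left, Over.comp_left, Scheme.Hom.comp_appTop, Scheme.Hom.comp_appTop,
      show i.left.appTop = _ from hi₀, show l.left.appTop = _ from hl₀]
    ext x
    exact (hiff φ).1 hφ (e.hom.hom x)
  refine ⟨(yon S).map l, ⟨?_, ?_⟩, ?_⟩
  · rw [← Functor.map_comp, hl₁]
    exact Functor.map_comp _ _ _
  · change (yon S).map l ≫ (yon S).map gO ≫ w = b
    rw [← Functor.map_comp_assoc, show l ≫ gO = c by ext : 1; exact hlg, hc₂]
  rintro m' ⟨hm₁, hm₂⟩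
  obtain ⟨m, rfl⟩ := (yon S).map_surjective (X := T') (Y := O') m'
  have hm₁' : j ≫ m = a ≫ i :=
    (yon S).map_injective (((yon S).map_comp _ _).trans (hm₁.trans ((yon S).map_comp _ _).symm))
  have hmc : m ≫ gO = c := (yon S).map_injective (hcu _ ⟨by
      rw [← Functor.map_comp, reassoc_of% hm₁', hi],
    ((congrArg (· ≫ w) ((yon S).map_comp m gO)).trans (Category.assoc _ _ _)).trans hm₂⟩)
  have hmg : (CommRingCat.ofHom (algebraMap A B') ≫ e.inv) ≫ m.left.appTop = c.left.appTop := by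
    rw [← hg, ← Scheme.Hom.comp_appTop]
    have h₀ : m.left ≫ g = c.left := congrArg (fun f : T' ⟶ Q => f.left) hmc
    rw [h₀]
  let ρ : B' →ₐ[A] C :=
    { (e.inv ≫ m.left.appTop).hom with
      commutes' := fun x => congrArg (fun f => f.hom x) hmg }
  have hρ : ρ = φ := by
    refine hφu ρ ((hiff ρ).2 fun x => ?_)
    have h := congrArg (fun f : T ⟶ O' => f.left.appTop) hm₁'
    simp only [Over.comp_left, Scheme.Hom.comp_appTop, show i.left.appTop = _ from hi₀] at h
    have h' := congrArg (fun f => f.hom (e.inv.hom x)) h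
    simp only [Category.assoc, CommRingCat.hom_comp, RingHom.comp_apply, CommRingCat.hom_ofHom] at h'
    rw [← RingHom.comp_apply e.hom.hom, ← CommRingCat.hom_comp, e.inv_hom_id] at h'
    exact h'
  congr 1
  ext : 1
  refine ext_of_isAffine ?_
  change m.left.appTop = l₀.appTop
  rw [hl₀, ← hρ]
  ext x
  change _ = m.left.appTop.hom (e.inv.hom (e.hom.hom x))
  rw [← RingHom.comp_apply e.inv.hom, ← CommRingCat.hom_comp, e.hom_inv_id]
  rfl

end Groth.Agent.Lib.UnivThick.Affine
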