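import Groth.Agent.Lib.UnivThick.Glue
import Mathlib.AlgebraicGeometry.Gluing

/-!
# Universal first order thickenings glue along open coverings
-/

universe u

open CategoryTheory CategoryTheory.Limits AlgebraicGeometry Opposite AlgSp
open Groth.Agent.Lib.AlgSpFormal

namespace Groth.Agent.Lib.UnivThick.Zariski

variable {S : Scheme.{u}}

/-- A map into a scheme landing in an open subscheme factors through it. -/
theorem exists_lift_of_range {A B T : Over S} (o : A ⟶ B) [IsOpenImmersion o.left] (g : T ⟶ B)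
    (h : Set.range g.left ⊆ Set.range o.left) : ∃ l : T ⟶ A, l ≫ o = g :=
  ⟨Over.homMk (IsOpenImmersion.lift o.left g.left h)
    (by rw [← Over.w o, IsOpenImmersion.lift_fac_assoc, Over.w]),
    by ext : 1; exact IsOpenImmersion.lift_fac _ _ h⟩

theorem mono_of_open {A B : Over S} (o : A ⟶ B) [IsOpenImmersion o.left] : Mono o :=
  (Over.forget S).mono_of_mono_map (inferInstanceAs (Mono o.left))

/-- Two maps to a universal thickening agree if they agree on a closed subscheme and over `X`. -/
theorem eq_of_univ {Z X : Sp S} {h : Z ⟶ X} {V' : Over S} {i : Z ⟶ (yon S).obj V'}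
    {h' : (yon S).obj V' ⟶ X} (HU : IsUnivFOThick h i h') {T₀ T : Over S} {j : T₀ ⟶ T}
    (hj : IsFOThickMor ((yon S).map j)) (a : (yon S).obj T₀ ⟶ Z) (l l' : T ⟶ V')
    (h₁ : (yon S).map j ≫ (yon S).map l = a ≫ i) (h₁' : (yon S).map j ≫ (yon S).map l' = a ≫ i)
    (h₂ : (yon S).map l ≫ h' = (yon S).map l' ≫ h') : l = l' :=
  (yon S).map_injective ((HU.2.2 (IsAlgSpace.yon_obj _) (IsAlgSpace.yon_obj _) _ a
    ((yon S).map l ≫ h') hj (by rw [reassoc_of% h₁, HU.2.1])).unique ⟨h₁, rfl⟩ ⟨h₁', h₂.symm⟩)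

/-- The open subscheme of a thickening on an open subscheme is universal. -/
theorem univ_open {X : Sp S} {A A' : Over S} {hA : (yon S).obj A ⟶ X} {iA : A ⟶ A'}
    {hA' : (yon S).obj A' ⟶ X} (HU : IsUnivFOThick hA ((yon S).map iA) hA') {P : Over S}
    (m : P ⟶ A) [IsOpenImmersion m.left] :
    ∃ (G : Over S) (g : G ⟶ A') (k : P ⟶ G), IsOpenImmersion g.left ∧ IsPullback m k iA g ∧
      IsUnivFOThick ((yon S).map m ≫ hA) ((yon S).map k) ((yon S).map g ≫ hA') := by
  have : IsClosedImmersion iA.left := ((isThickMor_yon_map_iff iA).1 HU.1.1).1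
  have : Surjective iA.left := ((isThickMor_yon_map_iff iA).1 HU.1.1).2
  obtain ⟨G, g, k, hg, sq⟩ := UnivEtale.exists_open_sub m iA
  exact ⟨G, g, k, hg, sq, Univ.univ_of_etale HU
    (Glue.isEtaleMor_yon_map (inferInstanceAs (Etale g.left)))
    (Yon.isFormallyEtaleMor_of_etale (AlgSpace.repWith_etale_yon_map (inferInstanceAs (Etale g.left))))
    (AlgSpace.isPullback_yon sq)⟩

variable {X : Sp S} {W : Over S} {h : (yon S).obj W ⟶ X} {ι : Type u} {O O' : ι → Over S}
  {o : ∀ a, O a ⟶ W} [∀ a, IsOpenImmersion (o a).left]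
  (hcov : ∀ x, ∃ a y, (o a).left y = x) {i : ∀ a, O a ⟶ O' a} {h' : ∀ a, (yon S).obj (O' a) ⟶ X}
  (HU : ∀ a, IsUnivFOThick ((yon S).map (o a) ≫ h) ((yon S).map (i a)) (h' a))

section Candidate

variable {W' : Over S} {iW : W ⟶ W'} {o' : ∀ a, O' a ⟶ W'} [∀ a, IsOpenImmersion (o' a).left]
  {hW' : (yon S).obj W' ⟶ X} (sq : ∀ a, IsPullback (o a) (i a) iW (o' a))
  (ho' : ∀ a, (yon S).map (o' a) ≫ hW' = h' a)

include hcov HU sq ho' in
/-- Universality is local on the thickened subscheme. -/
theorem univ_of_open_cover (hX : IsAlgSpace X) (hcov' : ∀ x, ∃ a y, (o' a).left y = x) :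
    IsUnivFOThick h ((yon S).map iW) hW' := by
  have hcl : IsClosedImmersion iW.left := by
    let 𝒰 : W'.left.OpenCover :=
      { I₀ := ι
        X := fun a => (O' a).left
        f := fun a => (o' a).left
        mem₀ := by
          rw [Scheme.presieve₀_mem_precoverage_iff]
          exact ⟨fun x => hcov' x, fun a => inferInstance⟩ }
    refine IsZariskiLocalAtTarget.of_openCover (P := @IsClosedImmersion) 𝒰 fun a => ?_
    have hi : IsClosedImmersion (i a).left := ((isThickMor_yon_map_iff (i a)).1 (HU a).1.1).1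
    exact (MorphismProperty.arrow_mk_iso_iff @IsClosedImmersion
      (Arrow.isoMk ((sq a).map (Over.forget S)).isoPullback (Iso.refl _)
        ((((sq a).map (Over.forget S)).isoPullback_hom_snd).trans (Category.comp_id _).symm))).1 hi
  have hsurj : Surjective iW.left := ⟨fun x => by
    obtain ⟨a, y, rfl⟩ := hcov' x
    obtain ⟨z, hz⟩ := ((isThickMor_yon_map_iff (i a)).1 (HU a).1.1).2.surj y
    refine ⟨(o a).left z, ?_⟩
    rw [← hz, ← Scheme.Hom.comp_apply, ← Scheme.Hom.comp_apply, ← Over.comp_left, ← Over.comp_left,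
      (sq a).w]⟩
  have hth : IsThickMor ((yon S).map iW) := (isThickMor_yon_map_iff iW).2 ⟨hcl, hsurj⟩
  have hFO : IsFOThickMor ((yon S).map iW) := ⟨hth, fun B P c fst snd hB _ sqB => by
    have := hB
    have hrep : RepWith @IsClosedImmersion ((yon S).map iW) := (AlgSp.repWith_yon_map_iff _ _).2 hcl
    have : IsClosedImmersion snd.left := hrep.2 c fst snd sqB
    refine Yon.ker_mul_ker_eq_bot _ (InfNbhd.ker_pow_eq_bot_of_cover hrep 2 sqB fun x => ?_)
    obtain ⟨c, rfl⟩ := (yon S).map_surjective c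
    obtain ⟨a, y, hy⟩ := hcov' (c.left x)
    obtain ⟨_, ⟨Q, hQ, rfl⟩, hxQ, hQc⟩ := B.left.isBasis_affineOpens.exists_subset_of_mem_open
      (show x ∈ c.left ⁻¹ᵁ (o' a).left.opensRange from ⟨y, hy⟩) (c.left ⁻¹ᵁ _).isOpen
    let QS : Over S := Over.mk (Scheme.Opens.ι Q ≫ B.hom)
    let q : QS ⟶ B := Over.homMk (Scheme.Opens.ι Q) rfl
    obtain ⟨k, hk⟩ := exists_lift_of_range (o' a) (q ≫ c) (by
      rintro _ ⟨t, rfl⟩
      exact hQc t.2)
    have : IsAffine QS.left := hQ
    refine ⟨QS, q, hQ, inferInstanceAs (Etale (Scheme.Opens.ι Q)), ⟨⟨x, hxQ⟩, rfl⟩, ?_⟩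
    have e : (yon S).map q ≫ (yon S).map c = (yon S).map k ≫ (yon S).map (o' a) := by
      rw [← Functor.map_comp, ← Functor.map_comp, hk]
    have sq' := hrep.1.isPullback ((yon S).map q ≫ (yon S).map c)
    obtain ⟨m, hm⟩ := (yon S).map_surjective ((AlgSpace.isPullback_yon (sq a)).lift (hrep.1.fst _)
      ((yon S).map (hrep.1.snd ((yon S).map q ≫ (yon S).map c) ≫ k)) (by
        rw [sq'.w, Functor.map_comp, Category.assoc, e]))
    have sqk : IsPullback ((yon S).map m)
        ((yon S).map (hrep.1.snd ((yon S).map q ≫ (yon S).map c)))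
        ((yon S).map (i a)) ((yon S).map k) := by
      refine IsPullback.of_right (t := AlgSpace.isPullback_yon (sq a)) ?_ ?_
      · rw [hm, IsPullback.lift_fst]
        exact e ▸ sq'
      · rw [hm, IsPullback.lift_snd]
        exact Functor.map_comp _ _ _
    exact (ThickBC.ker_sq_of_affine (HU a).1 (IsAlgSpace.yon_obj _) sqk).2⟩
  have hhW : (yon S).map iW ≫ hW' = h := by
    refine AlgSpace.hom_ext_of_family O o (AlgSpace.ofArrows_mem_J _ _ (fun a => inferInstance)
      (fun a => inferInstance) hcov) fun a => ?_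
    rw [← Functor.map_comp_assoc, (sq a).w, Functor.map_comp_assoc, ho', (HU a).2.1]
  have piece : ∀ {T₀ T : Over S} {j : T₀ ⟶ T}, IsFOThickMor ((yon S).map j) → ∀ (a₀ : T₀ ⟶ W) (a : ι),
      ∀ l : T ⟶ W', j ≫ l = a₀ ≫ iW → Set.range l.left ⊆ Set.range (o' a).left →
      ∃ (k : T ⟶ O' a) (b : T₀ ⟶ O a), k ≫ o' a = l ∧ b ≫ o a = a₀ ∧ j ≫ k = b ≫ i a := by
    intro T₀ T j _ a₀ a l hl hr
    obtain ⟨k, hk⟩ := exists_lift_of_range (o' a) l hr
    obtain ⟨b, hb₁, hb₂⟩ := (sq a).exists_lift a₀ (j ≫ k) (by rw [← hl, Category.assoc, hk])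
    exact ⟨k, b, hk, hb₁, hb₂.symm⟩
  have uniq : ∀ {T₀ T : Over S} {j : T₀ ⟶ T}, IsFOThickMor ((yon S).map j) → ∀ (a₀ : T₀ ⟶ W),
      ∀ l l' : T ⟶ W', j ≫ l = a₀ ≫ iW → j ≫ l' = a₀ ≫ iW →
      (yon S).map l ≫ hW' = (yon S).map l' ≫ hW' → l = l' := by
    intro T₀ T j hj a₀ l l' hl hl' he
    ext : 1
    let U : ι → T.left.Opens := fun a =>
      l.left ⁻¹ᵁ (o' a).left.opensRange ⊓ l'.left ⁻¹ᵁ (o' a).left.opensRange
    have : Surjective j.left := ((isThickMor_yon_map_iff j).1 hj.1).2
    refine (T.left.openCoverOfIsOpenCover U ?_).hom_ext _ _ fun (a : ι) => ?_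
    · refine TopologicalSpace.IsOpenCover.mk (eq_top_iff.2 fun t _ => ?_)
      obtain ⟨a, y, hy⟩ := hcov' (l.left t)
      obtain ⟨t₀, ht₀⟩ := j.left.surjective t
      refine TopologicalSpace.Opens.mem_iSup.2 ⟨a, ⟨y, hy⟩, y, hy.trans ?_⟩
      rw [← ht₀, ← Scheme.Hom.comp_apply, ← Scheme.Hom.comp_apply, ← Over.comp_left,
        ← Over.comp_left, hl, hl']
    let TU : Over S := Over.mk ((U a).ι ≫ T.hom)
    let u : TU ⟶ T := Over.homMk (U a).ι rfl
    let P := pullback j u
    have hF := ThickBC.isFOThickMor_of_isPullback hj (IsAlgSpace.yon_obj _)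
      (AlgSpace.isPullback_yon (IsPullback.of_hasPullback j u))
    obtain ⟨k, b, hk, hb, hkb⟩ := piece hF (pullback.fst j u ≫ a₀) a (u ≫ l)
      (by rw [← pullback.condition_assoc, hl, Category.assoc])
      (by rintro _ ⟨t, rfl⟩; exact t.2.1)
    obtain ⟨k', b', hk', hb', hkb'⟩ := piece hF (pullback.fst j u ≫ a₀) a (u ≫ l')
      (by rw [← pullback.condition_assoc, hl', Category.assoc])
      (by rintro _ ⟨t, rfl⟩; exact t.2.2)
    have := mono_of_open (o a)
    obtain rfl : b = b' := (cancel_mono (o a)).1 (hb.trans hb'.symm)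
    have : k = k' := eq_of_univ (HU a) hF ((yon S).map b) k k'
      (by rw [← Functor.map_comp, hkb, Functor.map_comp])
      (by rw [← Functor.map_comp, hkb', Functor.map_comp])
      (by rw [← ho', ← Functor.map_comp_assoc, ← Functor.map_comp_assoc, hk, hk',
        Functor.map_comp_assoc, Functor.map_comp_assoc, he])
    rw [this] at hk
    exact congrArg (fun m : TU ⟶ W' => m.left) (hk.symm.trans hk')
  refine (Groth.Agent.S10630.result (Z := ⟨_, IsAlgSpace.yon_obj W⟩)
    (Z' := ⟨_, IsAlgSpace.yon_obj W'⟩) (X := ⟨X, hX⟩)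
    (ObjectProperty.homMk h) (ObjectProperty.homMk ((yon S).map iW)) (ObjectProperty.homMk hW') hFO
    (by ext : 1; exact hhW)).2 fun T₀ T j _ hj a₀ b hab => ?_
  obtain ⟨a₀, rfl⟩ := (yon S).map_surjective (X := T₀) (Y := W) a₀
  have : IsClosedImmersion j.left := ((isThickMor_yon_map_iff j).1 hj.1).1
  have : Surjective j.left := ((isThickMor_yon_map_iff j).1 hj.1).2
  have hloc : ∀ a, ∃ (G : Over S) (g : G ⟶ T) (P : Over S) (m : P ⟶ T₀) (k : P ⟶ G) (l : G ⟶ W'),
      IsOpenImmersion g.left ∧ IsPullback m k j g ∧ k ≫ l = (m ≫ a₀) ≫ iW ∧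
      (yon S).map l ≫ hW' = (yon S).map g ≫ b ∧
      (∀ t, a₀.left t ∈ Set.range (o a).left → j.left t ∈ Set.range g.left) := by
    intro a
    let P : Over S := Over.mk ((a₀.left ⁻¹ᵁ (o a).left.opensRange).ι ≫ T₀.hom)
    let m : P ⟶ T₀ := Over.homMk (a₀.left ⁻¹ᵁ (o a).left.opensRange).ι rfl
    have : IsOpenImmersion m.left := inferInstanceAs (IsOpenImmersion (Scheme.Opens.ι _))
    obtain ⟨G, g, k, hg, sqG⟩ := UnivEtale.exists_open_sub m j
    obtain ⟨c, hc⟩ := exists_lift_of_range (o a) (m ≫ a₀) (by rintro _ ⟨t, rfl⟩; exact t.2)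
    have hF := ThickBC.isFOThickMor_of_isPullback hj (IsAlgSpace.yon_obj _)
      (AlgSpace.isPullback_yon sqG)
    obtain ⟨ly, ⟨hl₁, hl₂⟩, -⟩ := (HU a).2.2 (IsAlgSpace.yon_obj _) (IsAlgSpace.yon_obj _) _
      ((yon S).map c) ((yon S).map g ≫ b) hF (by
        rw [← Functor.map_comp_assoc, ← sqG.w, Functor.map_comp_assoc, hab,
          ← Functor.map_comp_assoc, ← hc, Functor.map_comp_assoc]
        rfl)
    obtain ⟨lk, rfl⟩ := (yon S).map_surjective ly
    have hl₁' : k ≫ lk = c ≫ i a := (yon S).map_injective (by simpa using hl₁)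
    refine ⟨G, g, P, m, k, lk ≫ o' a, hg, sqG, ?_, ?_, fun t ht => ?_⟩
    · rw [reassoc_of% hl₁', ← (sq a).w, ← Category.assoc, hc]
    · rw [Functor.map_comp_assoc, ho', hl₂]
    · refine ⟨k.left ⟨t, ht⟩, ?_⟩
      have e : k ≫ g = m ≫ j := sqG.w.symm
      exact congrArg (fun f : P ⟶ T => f.left ⟨t, ht⟩) e
  choose G g P m k l hg sqG hkl hlb hcovG using hloc
  have hcT : Sieve.ofArrows G g ∈ AlgSp.J S T :=
    AlgSpace.ofArrows_mem_J _ _ (fun a => have := hg a; inferInstance)
      (fun a => have := hg a; inferInstance) fun t => by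
        obtain ⟨t₀, rfl⟩ := j.left.surjective t
        obtain ⟨a, y, hy⟩ := hcov (a₀.left t₀)
        obtain ⟨z, hz⟩ := hcovG a t₀ ⟨y, hy⟩
        exact ⟨a, z, hz⟩
  obtain ⟨L, hL, -⟩ := AlgSpace.exists_desc_of_family G g hcT
    (fun a => (yon S).map (l a)) fun a a' T' ga ga' e => by
      rw [← Functor.map_comp, ← Functor.map_comp]
      congr 1
      have hF := ThickBC.isFOThickMor_of_isPullback hj (IsAlgSpace.yon_obj _)
        (AlgSpace.isPullback_yon (IsPullback.of_hasPullback j (ga ≫ g a)))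
      refine uniq hF (pullback.fst j (ga ≫ g a) ≫ a₀) _ _ ?_ ?_ ?_
      · obtain ⟨c, hc₁, hc₂⟩ := (sqG a).exists_lift (pullback.fst j (ga ≫ g a))
          (pullback.snd j (ga ≫ g a) ≫ ga) (by rw [pullback.condition, Category.assoc])
        rw [← Category.assoc, ← hc₂, Category.assoc, hkl, ← hc₁]
        simp only [Category.assoc]
      · obtain ⟨c, hc₁, hc₂⟩ := (sqG a').exists_lift (pullback.fst j (ga ≫ g a))
          (pullback.snd j (ga ≫ g a) ≫ ga') ((pullback.condition).trans ((congrArg (pullback.snd j (ga ≫ g a) ≫ ·) e).trans (Category.assoc _ _ _).symm))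
        rw [← Category.assoc, ← hc₂, Category.assoc, hkl, ← hc₁]
        simp only [Category.assoc]
      · rw [Functor.map_comp_assoc, Functor.map_comp_assoc, hlb, hlb, ← Functor.map_comp_assoc, e,
          Functor.map_comp_assoc]
  obtain ⟨L, rfl⟩ := (yon S).map_surjective L
  have hL' : ∀ a, g a ≫ L = l a := fun a => (yon S).map_injective (by simpa using hL a)
  have hjL : j ≫ L = a₀ ≫ iW := by
    apply (yon S).map_injective
    refine AlgSpace.hom_ext_of_family P m (AlgSpace.ofArrows_mem_J _ _ (fun a => ?_) (fun a => ?_)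
      fun t => ?_) fun a => ?_
    · have := hg a
      have : IsOpenImmersion (m a).left := MorphismProperty.of_isPullback (P := @IsOpenImmersion)
        ((sqG a).map (Over.forget S)).flip (hg a)
      infer_instance
    · have := hg a
      have : IsOpenImmersion (m a).left := MorphismProperty.of_isPullback (P := @IsOpenImmersion)
        ((sqG a).map (Over.forget S)).flip (hg a)
      infer_instance
    · obtain ⟨a, y, hy⟩ := hcov (a₀.left t)
      obtain ⟨z, hz⟩ := hcovG a t ⟨y, hy⟩
      obtain ⟨p, hp, -⟩ := Scheme.exists_preimage_of_isPullback ((sqG a).map (Over.forget S)) t z hz.symm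
      exact ⟨a, p, hp⟩
    · rw [← Functor.map_comp, ← Functor.map_comp, reassoc_of% (sqG a).w, hL', hkl, Category.assoc]
  have hLb : (yon S).map L ≫ hW' = b :=
    AlgSpace.hom_ext_of_family G g hcT fun a => by rw [← Functor.map_comp_assoc, hL', hlb]
  refine ⟨(yon S).map L, ⟨?_, hLb⟩, ?_⟩
  · rw [← Functor.map_comp, hjL]
    exact Functor.map_comp _ _ _
  · rintro l' ⟨hl'₁, hl'₂⟩
    obtain ⟨l', rfl⟩ := (yon S).map_surjective (X := T) (Y := W') l'
    have hl'₃ : j ≫ l' = a₀ ≫ iW := (yon S).map_injective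
      (((yon S).map_comp j l').trans (hl'₁.trans ((yon S).map_comp a₀ iW).symm))
    exact congrArg _ (uniq hj a₀ l' L hl'₃ hjL (hl'₂.trans hLb.symm))

end Candidate

include hcov HU in
/-- Universal first order thickenings of the members of an open covering glue. -/
theorem exists_univ_of_open_cover (hX : IsAlgSpace X) :
    ∃ (W' : Over S) (iW : W ⟶ W') (hW' : (yon S).obj W' ⟶ X),
      IsUnivFOThick h ((yon S).map iW) hW' := by
  have hmo : ∀ a, Mono (o a) := fun a => mono_of_open (o a)
  have hin : ∀ a b, ∃ (G : Over S) (g : G ⟶ O' a) (k : pullback (o a) (o b) ⟶ G),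
      IsOpenImmersion g.left ∧ IsPullback (pullback.fst (o a) (o b)) k (i a) g ∧
      IsUnivFOThick ((yon S).map (pullback.fst (o a) (o b)) ≫ (yon S).map (o a) ≫ h)
        ((yon S).map k) ((yon S).map g ≫ h' a) := by
    intro a b
    have : IsOpenImmersion (pullback.fst (o a) (o b)).left :=
      MorphismProperty.of_isPullback (P := @IsOpenImmersion)
        ((IsPullback.of_hasPullback (o a) (o b)).map (Over.forget S)).flip
        (inferInstanceAs (IsOpenImmersion (o b).left))
    exact univ_open (HU a) _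
  choose G g k hg sqG HG using hin
  have ht : ∀ a b, ∃ t : G a b ⟶ G b a,
      k a b ≫ t = (pullbackSymmetry (o a) (o b)).hom ≫ k b a ∧
      (yon S).map t ≫ (yon S).map (g b a) ≫ h' b = (yon S).map (g a b) ≫ h' a := by
    intro a b
    obtain ⟨ty, ⟨h₁, h₂⟩, -⟩ := (HG b a).2.2 (IsAlgSpace.yon_obj _) (IsAlgSpace.yon_obj _) _
      ((yon S).map (pullbackSymmetry (o a) (o b)).hom) ((yon S).map (g a b) ≫ h' a) (HG a b).1 (by
        rw [(HG a b).2.1, ← Functor.map_comp_assoc, ← Functor.map_comp_assoc, ← Functor.map_comp_assoc,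
          pullbackSymmetry_hom_comp_fst, pullback.condition])
    obtain ⟨t, rfl⟩ := (yon S).map_surjective ty
    exact ⟨t, (yon S).map_injective (by simpa using h₁), h₂⟩
  choose t htk hth using ht
  have htt : ∀ a b, t a b ≫ t b a = 𝟙 _ := fun a b => by
    refine eq_of_univ (HG a b) (HG a b).1 (𝟙 _) _ _ ?_ (by simp) ?_
    · have e : (pullbackSymmetry (o a) (o b)).hom ≫ (pullbackSymmetry (o b) (o a)).hom = 𝟙 _ := by
        apply pullback.hom_ext <;> simp
      rw [← Functor.map_comp, reassoc_of% htk a b, htk b a, reassoc_of% e, Category.id_comp]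
    · rw [Functor.map_comp_assoc, hth b a, hth a b, CategoryTheory.Functor.map_id, Category.id_comp]
  -- the comparison map of overlaps with the target
  let s : ∀ a b, G a b ⟶ O' b := fun a b => t a b ≫ g b a
  have hks : ∀ a b, k a b ≫ s a b = pullback.snd (o a) (o b) ≫ i b := fun a b => by
    rw [reassoc_of% htk a b, ← (sqG b a).w, pullbackSymmetry_hom_comp_fst_assoc]
  have hsh : ∀ a b, (yon S).map (s a b) ≫ h' b = (yon S).map (g a b) ≫ h' a := fun a b => by
    rw [Functor.map_comp_assoc, hth]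
  let W3 : ι → ι → ι → Over S := fun a b c =>
    Over.mk (pullback.fst (g a b).left (g a c).left ≫ (G a b).hom)
  let p₁ : ∀ a b c, W3 a b c ⟶ G a b := fun a b c => Over.homMk (pullback.fst _ _) rfl
  let p₂ : ∀ a b c, W3 a b c ⟶ G a c := fun a b c => Over.homMk (pullback.snd _ _) (by
    change pullback.snd _ _ ≫ (G a c).hom = pullback.fst _ _ ≫ (G a b).hom
    rw [← Over.w (g a c), ← Over.w (g a b), pullback.condition_assoc])
  have pw : ∀ a b c, p₁ a b c ≫ g a b = p₂ a b c ≫ g a c := fun a b c => by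
    ext : 1; exact pullback.condition
  -- the closed part of a triple overlap
  have closed : ∀ a b c, ∃ (Q : Over S) (j : Q ⟶ W3 a b c) (x : Q ⟶ O a) (y : Q ⟶ O b)
      (z : Q ⟶ O c), IsFOThickMor ((yon S).map j) ∧ x ≫ o a = y ≫ o b ∧ x ≫ o a = z ≫ o c ∧
      j ≫ p₁ a b c ≫ g a b = x ≫ i a ∧ j ≫ p₁ a b c ≫ s a b = y ≫ i b ∧
      j ≫ p₂ a b c ≫ s a c = z ≫ i c := by
    intro a b c
    let j := pullback.snd (i a) (p₁ a b c ≫ g a b)
    obtain ⟨u, hu₁, hu₂⟩ := (sqG a b).exists_lift (pullback.fst (i a) (p₁ a b c ≫ g a b))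
      (j ≫ p₁ a b c) (by rw [pullback.condition, Category.assoc])
    obtain ⟨v, hv₁, hv₂⟩ := (sqG a c).exists_lift (pullback.fst (i a) (p₁ a b c ≫ g a b))
      (j ≫ p₂ a b c) (by rw [pullback.condition, Category.assoc, ← pw])
    refine ⟨_, j, pullback.fst (i a) (p₁ a b c ≫ g a b), u ≫ pullback.snd (o a) (o b),
      v ≫ pullback.snd (o a) (o c),
      ThickBC.isFOThickMor_of_isPullback (HU a).1 (IsAlgSpace.yon_obj _)
        (AlgSpace.isPullback_yon (IsPullback.of_hasPullback _ _)), ?_, ?_,
      pullback.condition.symm, ?_, ?_⟩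
    · rw [← hu₁, Category.assoc, pullback.condition, Category.assoc]
    · rw [← hv₁, Category.assoc, pullback.condition, Category.assoc]
    · rw [← reassoc_of% hu₂, hks, Category.assoc]
    · rw [← reassoc_of% hv₂, hks, Category.assoc]
  have hq : ∀ a b c, ∃ q : W3 a b c ⟶ G b c, q ≫ g b c = p₁ a b c ≫ s a b ∧
      q ≫ s b c = p₂ a b c ≫ s a c := by
    intro a b c
    obtain ⟨Q, j, x, y, z, hj, hxy, hxz, -, hy, hz⟩ := closed a b c
    let w : Q ⟶ pullback (o b) (o c) := pullback.lift y z (hxy.symm.trans hxz)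
    have : Surjective j.left := ((isThickMor_yon_map_iff j).1 hj.1).2
    obtain ⟨q, hq⟩ := exists_lift_of_range (T := W3 a b c) (g b c)
      (p₁ a b c ≫ s a b) (by
        rintro _ ⟨r, rfl⟩
        obtain ⟨r₀, rfl⟩ := j.left.surjective r
        refine ⟨(w ≫ k b c).left r₀, ?_⟩
        rw [← Scheme.Hom.comp_apply, ← Scheme.Hom.comp_apply, ← Over.comp_left, ← Over.comp_left,
          Category.assoc, ← (sqG b c).w, pullback.lift_fst_assoc, hy])
    refine ⟨q, hq, ?_⟩
    have hqk : j ≫ q = w ≫ k b c := by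
      have := mono_of_open (g b c)
      rw [← cancel_mono (g b c), Category.assoc, hq, hy, Category.assoc, ← (sqG b c).w,
        pullback.lift_fst_assoc]
    refine eq_of_univ (HU c) hj ((yon S).map z) _ _ ?_ ?_ ?_
    · rw [← Functor.map_comp, reassoc_of% hqk, hks, pullback.lift_snd_assoc, Functor.map_comp]
    · rw [← Functor.map_comp, hz, Functor.map_comp]
    · rw [Functor.map_comp_assoc, hsh, ← Functor.map_comp_assoc, hq, Functor.map_comp_assoc, hsh,
        Functor.map_comp_assoc, hsh, ← Functor.map_comp_assoc, pw, Functor.map_comp_assoc]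
  choose q hq₁ hq₂ using hq
  have hsg : ∀ a b, t a b ≫ s b a = g a b := fun a b => by
    simp only [s, reassoc_of% htt a b]
  have qw : ∀ a b c, (q a b c).left ≫ (g b c).left = (p₁ a b c ≫ t a b).left ≫ (g b a).left :=
    fun a b c => by
      rw [← Over.comp_left, ← Over.comp_left, hq₁, Category.assoc]
  let D : Scheme.GlueData :=
    { J := ι
      U := fun a => (O' a).left
      V := fun p => (G p.1 p.2).left
      f := fun a b => (g a b).left
      f_mono := fun a b => have := hg a b; inferInstance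
      f_id := fun a => by
        have := hmo a
        have : IsIso (pullback.fst (o a) (o a)) := inferInstance
        have := hg a a
        have hk' : Surjective (i a).left := ((isThickMor_yon_map_iff (i a)).1 (HU a).1.1).2
        have : Surjective (g a a).left := ⟨fun x => by
          obtain ⟨y, rfl⟩ := hk'.surj x
          refine ⟨(inv (pullback.fst (o a) (o a)) ≫ k a a).left y, ?_⟩
          rw [← Scheme.Hom.comp_apply, ← Over.comp_left, Category.assoc, ← (sqG a a).w,
            IsIso.inv_hom_id_assoc]⟩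
        exact (isIso_iff_isOpenImmersion_and_surjective _).2 ⟨inferInstance, inferInstance⟩
      t := fun a b => (t a b).left
      t_id := fun a => by
        have : t a a = 𝟙 _ := by
          refine eq_of_univ (HG a a) (HG a a).1 (𝟙 _) _ _ ?_ (by simp) ?_
          · have := hmo a
            have e : pullback.fst (o a) (o a) = pullback.snd (o a) (o a) :=
              (cancel_mono (o a)).1 pullback.condition
            have e' : (pullbackSymmetry (o a) (o a)).hom = 𝟙 _ := by
              apply pullback.hom_ext <;> simp [e]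
            rw [← Functor.map_comp, htk, e', Category.id_comp, Category.id_comp]
          · rw [hth, CategoryTheory.Functor.map_id, Category.id_comp]
        rw [this]; rfl
      t' := fun a b c => pullback.lift (q a b c).left (p₁ a b c ≫ t a b).left (qw a b c)
      t_fac := fun a b c => pullback.lift_snd _ _ _
      cocycle := fun a b c => by
        have key : ∀ a b c : ι, pullback.lift (q a b c).left (p₁ a b c ≫ t a b).left (qw a b c) ≫
            pullback.fst _ _ ≫ (g b c).left = pullback.fst _ _ ≫ (s a b).left := fun a b c => by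
          rw [pullback.lift_fst_assoc, ← Over.comp_left, hq₁]
          rfl
        have key' : ∀ a b c : ι, pullback.lift (q a b c).left (p₁ a b c ≫ t a b).left (qw a b c) ≫
            pullback.fst _ _ ≫ (s b c).left = pullback.snd _ _ ≫ (s a c).left := fun a b c => by
          rw [pullback.lift_fst_assoc, ← Over.comp_left, hq₂]
          rfl
        have key'' : ∀ a b c : ι, pullback.lift (q a b c).left (p₁ a b c ≫ t a b).left (qw a b c) ≫
            pullback.snd _ _ ≫ (s b a).left = pullback.fst _ _ ≫ (g a b).left := fun a b c => by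
          rw [pullback.lift_snd_assoc, ← Over.comp_left, Category.assoc, hsg]
          rfl
        have := hg a b
        have := hg a c
        have : Mono (pullback.fst (g a b).left (g a c).left ≫ (g a b).left) := inferInstance
        rw [← cancel_mono (pullback.fst (g a b).left (g a c).left ≫ (g a b).left)]
        simp only [Category.assoc, Category.id_comp]
        rw [key c a b, key' b c a, key'' a b c]
      f_open := fun a b => hg a b }
  let inc : ∀ a, (O' a).left ⟶ D.glued := fun a => D.ι a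
  have hinc : ∀ a, IsOpenImmersion (inc a) := fun a => Scheme.GlueData.ι_isOpenImmersion D a
  have sqI : ∀ a b, IsPullback (g a b).left (s a b).left (inc a) (inc b) := fun a b => by
    have h := (⟨⟨((Category.assoc _ _ _).trans (D.glue_condition a b)).symm⟩,
      ⟨D.vPullbackConeIsLimit a b⟩⟩ :
        IsPullback (g a b).left ((t a b).left ≫ (g b a).left) (inc a) (inc b))
    rwa [← Over.comp_left] at h
  have hstr : ∃ u : D.glued ⟶ S, ∀ a, inc a ≫ u = (O' a).hom := by
    refine ⟨D.openCover.glueMorphisms (fun a => (O' a).hom) ?_,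
      fun a => Scheme.Cover.ι_glueMorphisms D.openCover _ _ a⟩
    intro a b
    obtain ⟨l, hl₁, hl₂⟩ := (sqI a b).exists_lift (pullback.fst (inc a) (inc b))
      (pullback.snd (inc a) (inc b)) pullback.condition
    change pullback.fst (inc a) (inc b) ≫ (O' a).hom = pullback.snd (inc a) (inc b) ≫ (O' b).hom
    rw [← hl₁, ← hl₂, Category.assoc, Category.assoc, Over.w (g a b), Over.w (s a b)]
  obtain ⟨u, hu⟩ := hstr
  let W' : Over S := Over.mk u
  let o' : ∀ a, O' a ⟶ W' := fun a => Over.homMk (inc a) (hu a)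
  have ho : ∀ a, IsOpenImmersion (o' a).left := hinc
  have hcov' : ∀ x, ∃ a y, (o' a).left y = x := fun x => D.ι_jointly_surjective x
  have sqO : ∀ a b, IsPullback (g a b) (s a b) (o' a) (o' b) := fun a b =>
    IsPullback.of_map_of_faithful (Over.forget S) (sqI a b)
  obtain ⟨hW', hhW', -⟩ := AlgSpace.exists_desc_of_family O' o'
    (AlgSpace.ofArrows_mem_J _ _ (fun a => inferInstance) (fun a => inferInstance) hcov') h'
    fun a b T ga gb e => by
      obtain ⟨l, hl₁, hl₂⟩ := (sqO a b).exists_lift ga gb e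
      rw [← hl₁, ← hl₂, Functor.map_comp_assoc, Functor.map_comp_assoc, hsh]
  obtain ⟨iy, hiy, -⟩ := AlgSpace.exists_desc_of_family (F := (yon S).obj W') O o
    (AlgSpace.ofArrows_mem_J _ _ (fun a => inferInstance) (fun a => inferInstance) hcov)
    (fun a => (yon S).map (i a ≫ o' a)) fun a b T ga gb e => by
      rw [← Functor.map_comp, ← Functor.map_comp]
      congr 1
      have e' : pullback.lift ga gb e ≫ k a b ≫ g a b = ga ≫ i a := by
        rw [← (sqG a b).w, pullback.lift_fst_assoc]
      rw [← reassoc_of% e', (sqO a b).w, reassoc_of% hks a b, pullback.lift_snd_assoc]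
  obtain ⟨iW, rfl⟩ := (yon S).map_surjective iy
  have hiW : ∀ a, o a ≫ iW = i a ≫ o' a := fun a => (yon S).map_injective (by simpa using hiy a)
  have sq : ∀ a, IsPullback (o a) (i a) iW (o' a) := fun a => by
    refine IsPullback.of_map_of_faithful (Over.forget S) (IsPullback.flip ?_)
    refine IsOpenImmersion.isPullback (i a).left (o a).left (o' a).left iW.left
      (congrArg (fun m : O a ⟶ W' => m.left) (hiW a)) ?_
    ext x
    constructor
    · rintro ⟨y, hy⟩
      obtain ⟨b, z, rfl⟩ := hcov x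
      have hy' : (o' a).left y = (o' b).left ((i b).left z) := by
        rw [hy, ← Scheme.Hom.comp_apply, ← Scheme.Hom.comp_apply, ← Over.comp_left, ← Over.comp_left,
          hiW]
      obtain ⟨e₁, he₁, -⟩ :=
        Scheme.exists_preimage_of_isPullback ((sqO b a).map (Over.forget S)) _ y hy'.symm
      obtain ⟨w, hw, -⟩ :=
        Scheme.exists_preimage_of_isPullback ((sqG b a).map (Over.forget S)) z e₁ he₁.symm
      refine ⟨(pullback.snd (o b) (o a)).left w, ?_⟩
      have hw' : (pullback.fst (o b) (o a)).left w = z := hw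
      rw [← hw']
      exact (congrArg (fun m : pullback (o b) (o a) ⟶ W => m.left w) pullback.condition).symm
    · rintro ⟨y, rfl⟩
      refine ⟨(i a).left y, ?_⟩
      rw [← Scheme.Hom.comp_apply, ← Scheme.Hom.comp_apply, ← Over.comp_left, ← Over.comp_left, hiW]
  exact ⟨W', iW, hW', univ_of_open_cover hcov HU sq hhW' hX hcov'⟩

end Groth.Agent.Lib.UnivThick.Zariski
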