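import Groth.Agent.Lib.UnivThick.Affine
import Groth.Agent.Lib.UnivThick.Zariski
import Groth.Agent.Lib.AlgSpFormal.Charts

/-!
# Existence of universal first order thickenings
-/

universe u

open CategoryTheory CategoryTheory.Limits AlgebraicGeometry Opposite AlgSp
open Groth.Agent.Lib.AlgSpFormal

namespace Groth.Agent.Lib.UnivThick.Exists

variable {S : Scheme.{u}}

/-- The source of an unramified chart diagram has a universal first order thickening. -/
theorem univ_of_chart {Z X : Sp S} (hX : IsAlgSpace X) (h : Z ⟶ X) {U V : Over S}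
    {a : (yon S).obj U ⟶ Z} {b : (yon S).obj V ⟶ X} {g : U ⟶ V} (hb : RepWith @Etale b)
    (w : a ≫ h = (yon S).map g ≫ b) [hg : FormallyUnramified g.left] :
    ∃ (U' : Over S) (i : U ⟶ U') (h' : (yon S).obj U' ⟶ X),
      IsUnivFOThick (a ≫ h) ((yon S).map i) h' := by
  have hO : ∀ x : ↥U.left, ∃ (O : U.left.Opens) (Q : V.left.Opens),
      IsAffineOpen O ∧ IsAffineOpen Q ∧ x ∈ O ∧ O ≤ g.left ⁻¹ᵁ Q := fun x => by
    obtain ⟨_, ⟨Q, hQ, rfl⟩, hxQ, -⟩ := V.left.isBasis_affineOpens.exists_subset_of_mem_open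
      (Set.mem_univ (g.left x)) isOpen_univ
    obtain ⟨_, ⟨O, hO, rfl⟩, hxO, hOQ⟩ :=
      U.left.isBasis_affineOpens.exists_subset_of_mem_open hxQ (g.left ⁻¹ᵁ Q).isOpen
    exact ⟨O, Q, hO, hQ, hxO, hOQ⟩
  choose O Q hOa hQa hxO hOQ using hO
  let OS : ↥U.left → Over S := fun x => Over.mk ((O x).ι ≫ U.hom)
  let o : ∀ x, OS x ⟶ U := fun x => Over.homMk (O x).ι rfl
  have hloc : ∀ x, ∃ (O' : Over S) (i : OS x ⟶ O') (h' : (yon S).obj O' ⟶ X),
      IsUnivFOThick ((yon S).map (o x) ≫ a ≫ h) ((yon S).map i) h' := fun x => by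
    let QS : Over S := Over.mk ((Q x).ι ≫ V.hom)
    let q : QS ⟶ V := Over.homMk (Q x).ι rfl
    let ψ : OS x ⟶ QS := Over.homMk (g.left.resLE (Q x) (O x) (hOQ x)) (by
      simp [OS, QS, Scheme.Hom.resLE_comp_ι_assoc])
    have hψ : ψ ≫ q = o x ≫ g := by ext : 1; exact Scheme.Hom.resLE_comp_ι _ _
    have : FormallyUnramified (ψ.left ≫ (Q x).ι) := by
      rw [show ψ.left ≫ (Q x).ι = (O x).ι ≫ g.left from Scheme.Hom.resLE_comp_ι _ _]
      exact MorphismProperty.comp_mem @FormallyUnramified _ _ inferInstance hg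
    have : FormallyUnramified ψ.left := FormallyUnramified.of_comp ψ.left (Q x).ι
    have : IsAffine (OS x).left := hOa x
    have : IsAffine QS.left := hQa x
    obtain ⟨O', i, h', -, HU⟩ := Affine.exists_univ_affine hX ψ
      (w := (yon S).map q ≫ b) (Yon.isFormallyEtaleMor_of_etale
        (AlgSpace.repWith_yon_map_comp (inferInstanceAs (Etale (Scheme.Opens.ι (Q x)))) hb))
    refine ⟨O', i, h', ?_⟩
    rwa [← Functor.map_comp_assoc, hψ, Functor.map_comp_assoc, ← w] at HU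
  choose O' i h' HU using hloc
  have : ∀ x, IsOpenImmersion (o x).left := fun x =>
    inferInstanceAs (IsOpenImmersion (Scheme.Opens.ι (O x)))
  exact Zariski.exists_univ_of_open_cover (o := o) (fun x => ⟨x, ⟨x, hxO x⟩, rfl⟩) HU hX

/-- Formally unramified morphisms of algebraic spaces have universal first order thickenings. -/
theorem exists_univ {Z X : Sp S} (hZ : IsAlgSpace Z) (hX : IsAlgSpace X) (h : Z ⟶ X)
    (hh : IsFormallyUnramifiedMor h) :
    ∃ (Z' : Sp S) (iZ : Z ⟶ Z') (h' : Z' ⟶ X), IsAlgSpace Z' ∧ IsUnivFOThick h iZ h' := by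
  obtain ⟨U, V, a, b, g, ha, has, hb, -, w⟩ := AlgSpMor.LocP.exists_chart hZ hX h
  have hg : FormallyUnramified g.left := Charts.formallyUnramified_chart ha hb w hh
  obtain ⟨U', i, hU', HU⟩ := univ_of_chart hX h hb w
  obtain ⟨R, s, t, hR⟩ := AlgSpace.exists_isPullback_yon hZ.diag a a
  have w' : ((yon S).map s ≫ a) ≫ h = (yon S).map (s ≫ g) ≫ b := by
    rw [Category.assoc, w, Functor.map_comp_assoc]
  have : Etale s.left := AlgSpace.repWith_property ha hR.flip
  have hsg : FormallyUnramified (s ≫ g).left :=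
    Charts.formallyUnramified_chart (AlgSpace.repWith_yon_map_comp ‹_› ha) hb w' hh
  obtain ⟨R', iR, hR', HR⟩ := univ_of_chart hX h hb w'
  rw [Category.assoc] at HR
  exact Glue.exists_univ hX hZ ha has hR HU HR

/-- A first order thickening of schemes is one of sheaves. -/
theorem isFOThickMor_yon_map_of_scheme {T T' : Over S} (j : T ⟶ T')
    (hj : MoreMor.IsFirstOrderThickening j.left) : IsFOThickMor ((yon S).map j) := by
  refine ⟨(isThickMor_yon_map_iff j).2 hj.1, fun B P c fst snd hB _ sq => ?_⟩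
  have := hB
  have : IsClosedImmersion j.left := hj.1.1
  have hrep : RepWith @IsClosedImmersion ((yon S).map j) :=
    (AlgSp.repWith_yon_map_iff _ _).2 hj.1.1
  have : IsClosedImmersion snd.left := hrep.2 c fst snd sq
  refine Yon.ker_mul_ker_eq_bot _ (InfNbhd.ker_pow_eq_bot_of_cover hrep 2 sq fun x => ?_)
  obtain ⟨c, rfl⟩ := (yon S).map_surjective c
  obtain ⟨_, ⟨Q, hQ, rfl⟩, hxQ, -⟩ := T'.left.isBasis_affineOpens.exists_subset_of_mem_open
    (Set.mem_univ (c.left x)) isOpen_univ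
  obtain ⟨_, ⟨O, hO, rfl⟩, hxO, hOQ⟩ :=
    B.left.isBasis_affineOpens.exists_subset_of_mem_open hxQ (c.left ⁻¹ᵁ Q).isOpen
  let OS : Over S := Over.mk (Scheme.Opens.ι O ≫ B.hom)
  let o : OS ⟶ B := Over.homMk (Scheme.Opens.ι O) rfl
  refine ⟨OS, o, hO, inferInstanceAs (Etale (Scheme.Opens.ι O)), ⟨⟨x, hxO⟩, rfl⟩, ?_⟩
  have sq' := hrep.1.isPullback ((yon S).map o ≫ (yon S).map c)
  obtain ⟨f, hf⟩ := (yon S).map_surjective (hrep.1.fst ((yon S).map o ≫ (yon S).map c))
  rw [← hf] at sq'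
  have sqf : IsPullback ((yon S).map f) ((yon S).map (hrep.1.snd ((yon S).map o ≫ (yon S).map c)))
      ((yon S).map j) ((yon S).map (o ≫ c)) := by
    convert sq' using 1
    exact Functor.map_comp _ _ _
  have sq₂ := (AlgSpace.isPullback_of_yon_map sqf).map (Over.forget S)
  have hOS : IsAffineOpen (⊤ : OS.left.Opens) := @isAffineOpen_top _ hO
  have : IsClosedImmersion ((Over.forget S).map j) := hj.1.1
  obtain ⟨-, hk⟩ := Groth.Agent.H54.ThickLocal.ker_app_eq_map sq₂.flip (V := Q) hQ (U := ⊤) hOS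
    (fun y _ => hOQ y.2)
  refine (congrArg (· ^ 2) hk).trans ((Ideal.map_pow _ _ _).symm.trans ?_)
  have h0 := congrArg (fun I : T'.left.IdealSheafData => I.ideal ⟨Q, hQ⟩) hj.2
  rw [Scheme.IdealSheafData.ideal_mul, Pi.mul_apply, j.left.ker_apply] at h0
  rw [pow_two]
  exact (congrArg (Ideal.map _) (h0.trans (by simp))).trans Ideal.map_bot

/-- A first order thickening of sheaves between schemes is one of schemes. -/
theorem scheme_of_isFOThickMor_yon_map {T T' : Over S} (j : T ⟶ T')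
    (hj : IsFOThickMor ((yon S).map j)) : MoreMor.IsFirstOrderThickening j.left := by
  have hjt := (isThickMor_yon_map_iff j).1 hj.1
  have : IsClosedImmersion j.left := hjt.1
  refine ⟨hjt, Scheme.IdealSheafData.ext (funext fun Q => ?_)⟩
  let QS : Over S := Over.mk (Scheme.Opens.ι Q.1 ≫ T'.hom)
  let q : QS ⟶ T' := Over.homMk (Scheme.Opens.ι Q.1) rfl
  have : IsAffine QS.left := Q.2
  obtain ⟨-, h2⟩ := ThickBC.ker_sq_of_affine hj (IsAlgSpace.yon_obj T')
    (AlgSpace.isPullback_yon (IsPullback.of_hasPullback j q))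
  have sq₂ := (IsPullback.of_hasPullback j q).map (Over.forget S)
  have hQS : IsAffineOpen (⊤ : QS.left.Opens) := @isAffineOpen_top _ Q.2
  have : IsClosedImmersion ((Over.forget S).map j) := hjt.1
  obtain ⟨-, hk⟩ := Groth.Agent.H54.ThickLocal.ker_app_eq_map sq₂.flip (V := Q.1) Q.2 (U := ⊤) hQS
    (fun y _ => y.2)
  have h2' := (congrArg (· ^ 2) hk).symm.trans h2
  rw [Scheme.IdealSheafData.ideal_mul, Pi.mul_apply, j.left.ker_apply]
  simp only [Scheme.IdealSheafData.ideal_bot, Pi.bot_apply]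
  rw [eq_bot_iff, ← pow_two]
  intro z hz
  have h3 := Ideal.mem_map_of_mem
    (((Over.forget S).map q).appLE Q.1 ⊤ (fun y _ => y.2)).hom hz
  have h3 := ((Ideal.map_pow _ _ 2).trans h2').le h3
  have hbij : Function.Bijective ((Scheme.Opens.ι Q.1).appLE Q.1 ⊤ (fun y _ => y.2)).hom := by
    have key : ∀ (U : Q.1.toScheme.Opens) (e : U ≤ (Scheme.Opens.ι Q.1) ⁻¹ᵁ Q.1),
        U = (Scheme.Opens.ι Q.1) ⁻¹ᵁ Q.1 → IsIso ((Scheme.Opens.ι Q.1).appLE Q.1 U e) := by
      intro U e h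
      subst h
      rw [← Scheme.Hom.app_eq_appLE]
      exact Scheme.Hom.isIso_app _ _ (by rw [Scheme.Opens.opensRange_ι])
    have := key ⊤ (fun y _ => y.2) (Scheme.Opens.ι_preimage_self Q.1).symm
    exact ConcreteCategory.bijective_of_isIso _
  exact Ideal.mem_bot.2 ((map_eq_zero_iff _ hbij.1).1 (Ideal.mem_bot.1 h3))

/-- Formally unramified morphisms of schemes have universal first order thickenings. -/
theorem exists_univ_scheme {Z X : Scheme.{u}} (h : Z ⟶ X) [FormallyUnramified h] :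
    ∃ (Z' : Scheme.{u}) (i : Z ⟶ Z') (h' : Z' ⟶ X), OmegaSh.IsUnivThickening h i h' := by
  let XS : Over X := Over.mk (𝟙 X)
  let ZS : Over X := Over.mk h
  let g : ZS ⟶ XS := Over.homMk h (Category.comp_id h)
  have hb : RepWith @Etale (𝟙 ((yon X).obj XS)) := by
    rw [← CategoryTheory.Functor.map_id]
    exact AlgSpace.repWith_etale_yon_map (inferInstanceAs (Etale (𝟙 X)))
  have : FormallyUnramified g.left := ‹_›
  obtain ⟨Z', i, hy, HU⟩ := univ_of_chart (IsAlgSpace.yon_obj XS) ((yon X).map g)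
    (a := 𝟙 ((yon X).obj ZS)) hb (by rw [Category.id_comp, Category.comp_id])
  obtain ⟨h', rfl⟩ := (yon X).map_surjective hy
  rw [Category.id_comp] at HU
  have hw : i ≫ h' = g := (yon X).map_injective (((yon X).map_comp _ _).trans HU.2.1)
  refine ⟨Z'.left, i.left, h'.left, scheme_of_isFOThickMor_yon_map i HU.1,
    congrArg (fun m : ZS ⟶ XS => m.left) hw, fun T T' j b a hj hjb => ?_⟩
  let T'S : Over X := Over.mk b
  let TS : Over X := Over.mk (j ≫ b)
  let jS : TS ⟶ T'S := Over.homMk j rfl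
  let bS : T'S ⟶ XS := Over.homMk b (Category.comp_id b)
  let aS : TS ⟶ ZS := Over.homMk a hjb.symm
  have hh' : h'.left = Z'.hom := (Category.comp_id h'.left).symm.trans (Over.w h')
  obtain ⟨ly, ⟨hl₁, hl₂⟩, hlu⟩ := HU.2.2 (IsAlgSpace.yon_obj TS) (IsAlgSpace.yon_obj T'S)
    ((yon X).map jS) ((yon X).map aS) ((yon X).map bS) (isFOThickMor_yon_map_of_scheme jS hj) (by
      rw [← Functor.map_comp, ← Functor.map_comp]
      congr 1
      ext : 1
      exact hjb)
  obtain ⟨l, rfl⟩ := (yon X).map_surjective ly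
  rw [← Functor.map_comp, ← Functor.map_comp] at hl₁
  rw [← Functor.map_comp] at hl₂
  refine ⟨l.left, ⟨congrArg (fun m : TS ⟶ Z' => m.left) ((yon X).map_injective hl₁),
    congrArg (fun m : T'S ⟶ XS => m.left) ((yon X).map_injective hl₂)⟩, ?_⟩
  rintro m ⟨hm₁, hm₂⟩
  let mS : T'S ⟶ Z' := Over.homMk m (by rw [← hh']; exact hm₂)
  refine congrArg (fun m : T'S ⟶ Z' => m.left)
    ((yon X).map_injective (hlu ((yon X).map mS) ⟨?_, ?_⟩))
  · rw [← Functor.map_comp, ← Functor.map_comp]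
    congr 1
    ext : 1
    exact hm₁
  · rw [← Functor.map_comp]
    congr 1
    ext : 1
    exact hm₂

end Groth.Agent.Lib.UnivThick.Exists
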