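import Groth.Prelude.Def_Omega3
import Mathlib.RingTheory.Kaehler.Basic
import Mathlib.Algebra.MvPolynomial.PDeriv

/-!
# The universal first order thickening of a formally unramified algebra

For `P = R[X_s : s ∈ S] → S` with kernel `J`, formal unramifiedness gives `σ s ∈ J` with the same
differential as `X_s` modulo `J`; the thickening is `P ⧸ (J² + (σ s))`.
-/

universe u

open MvPolynomial

namespace Groth.Agent.Lib.UnivThick.Ring

variable (R : Type u) [CommRing R] (S : Type u) [CommRing S] [Algebra R S]

/-- The evaluation on all elements of `S`. -/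
noncomputable abbrev ev : MvPolynomial S R →ₐ[R] S := aeval id

variable {R S}

/-- The differential of a polynomial, as a finitely supported vector of polynomials. -/
noncomputable def grad : Derivation R (MvPolynomial S R) (S →₀ MvPolynomial S R) :=
  mkDerivation R fun s => Finsupp.single s 1

@[simp] theorem grad_X (s : S) : grad (R := R) (X s) = Finsupp.single s 1 := mkDerivation_X R _ s

/-- The first order Taylor formula along a square-zero ideal. -/
theorem aeval_add_eq {A : Type u} [CommRing A] [Algebra R A] (I : Ideal A) (hI : I ^ 2 = ⊥)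
    (v i : S → A) (hi : ∀ s, i s ∈ I) (f : MvPolynomial S R) :
    aeval (v + i) f = aeval v f + (grad f).sum fun s c => aeval v c * i s := by
  have hsum : ∀ g : S →₀ MvPolynomial S R, g.sum (fun s c => aeval v c * i s) ∈ I := fun g =>
    I.sum_mem fun s _ => I.mul_mem_left _ (hi s)
  have hII : ∀ x ∈ I, ∀ y ∈ I, x * y = 0 := fun x hx y hy => by
    have := Ideal.mul_mem_mul hx hy
    rwa [← pow_two, hI, Ideal.mem_bot] at this
  induction f using MvPolynomial.induction_on with
  | C a => simp [grad]
  | add p q hp hq =>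
    rw [map_add, map_add, map_add, Finsupp.sum_add_index' (fun s => by simp)
      (fun s c d => by rw [map_add, add_mul]), hp, hq]
    ring
  | mul_X p n hp =>
    rw [map_mul, map_mul, hp, aeval_X, aeval_X, Derivation.leibniz, grad_X,
      Finsupp.sum_add_index' (fun s => by simp) (fun s c d => by rw [map_add, add_mul]),
      Finsupp.sum_smul_index' (fun s => by simp), Finsupp.sum_smul_index' (fun s => by simp),
      Finsupp.sum_single_index (by simp), Pi.add_apply]
    simp only [smul_eq_mul, map_mul, aeval_X, mul_one, mul_assoc, ← Finsupp.mul_sum]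
    rw [add_mul, mul_add, mul_add, hII _ (hsum _) _ (hi n), add_zero]
    ring

/-- The gradient map on the kernel of the evaluation is surjective. -/
theorem exists_ker_grad [Algebra.FormallyUnramified R S] (x : S) :
    ∃ f : MvPolynomial S R, ev R S f = 0 ∧ ∀ s, ev R S (grad f s) = ev R S (grad (R := R) (X x) s) := by
  let π := ev R S
  let G : MvPolynomial S R → (S →₀ S) := fun f => (grad f).mapRange π (map_zero π)
  have G_add : ∀ f g, G (f + g) = G f + G g := fun f g => by
    ext s; simp [G]
  have G_mul : ∀ f g, G (f * g) = π f • G g + π g • G f := fun f g => by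
    ext s; simp [G, Derivation.leibniz]
  have G_X : ∀ s, G (X s) = Finsupp.single s 1 := fun s => by simp [G]
  have G_C : ∀ r, G (C r) = 0 := fun r => by ext s; simp [G, grad]
  let im : Submodule S (S →₀ S) :=
    { carrier := {m | ∃ f, π f = 0 ∧ G f = m}
      zero_mem' := ⟨C 0, by simp, G_C 0⟩
      add_mem' := by
        rintro _ _ ⟨f, hf, rfl⟩ ⟨g, hg, rfl⟩
        exact ⟨f + g, by simp [hf, hg], G_add f g⟩
      smul_mem' := by
        rintro c _ ⟨f, hf, rfl⟩
        refine ⟨X c * f, by simp [π, hf], ?_⟩
        rw [G_mul, hf, zero_smul, add_zero]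
        simp [π] }
  have key : ∀ f g, π f = π g → im.mkQ (G f) = im.mkQ (G g) := fun f g h => by
    refine (Submodule.Quotient.eq im).2 ⟨f - g, by rw [map_sub, h, sub_self], ?_⟩
    rw [eq_sub_iff_add_eq, ← G_add, sub_add_cancel]
  let d : Derivation R S ((S →₀ S) ⧸ im) := Derivation.mk'
    { toFun := fun s => im.mkQ (G (X s))
      map_add' := fun a b => by
        rw [key (X (a + b)) (X a + X b) (by simp [π]), G_add, map_add]
      map_smul' := fun r a => by
        rw [key (X (r • a)) (C r * X a) (by simp [π, Algebra.smul_def]), G_mul, G_C, smul_zero,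
          add_zero, RingHom.id_apply, ← algebraMap_smul S r (im.mkQ (G (X a))), map_smul]
        simp [π] }
    fun a b => by
      change im.mkQ (G (X (a * b))) = a • im.mkQ (G (X b)) + b • im.mkQ (G (X a))
      rw [key (X (a * b)) (X a * X b) (by simp [π]), G_mul, map_add, map_smul, map_smul]
      simp [π]
  have hd : im.mkQ (G (X x)) = 0 := by
    have h := d.liftKaehlerDifferential_comp_D x
    rw [Subsingleton.elim (KaehlerDifferential.D R S x) 0, map_zero] at h
    exact h.symm
  obtain ⟨f, hf, hfx⟩ := (Submodule.Quotient.mk_eq_zero im).1 hd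
  refine ⟨f, hf, fun s => ?_⟩
  have h := congr($hfx s)
  rw [grad_X]
  classical
  simp only [G, grad_X, Finsupp.mapRange_apply, Finsupp.single_apply] at h ⊢
  exact h

/-- The universal first order thickening of a formally unramified algebra exists. -/
theorem exists_univ [Algebra.FormallyUnramified R S] :
    ∃ (S' : Type u) (_ : CommRing S') (_ : Algebra R S') (π : S' →ₐ[R] S),
      OmegaSh.IsUnivThickeningRing R S S' π := by
  choose σ hσ₁ hσ₂ using fun x : S => exists_ker_grad (R := R) x
  let J : Ideal (MvPolynomial S R) := RingHom.ker (ev R S)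
  let N : Ideal (MvPolynomial S R) := J ^ 2 ⊔ Ideal.span (Set.range σ)
  have hN : N ≤ J := sup_le (Ideal.pow_le_self two_ne_zero) (Ideal.span_le.2 (by
    rintro _ ⟨x, rfl⟩; exact hσ₁ x))
  let π : (MvPolynomial S R ⧸ N) →ₐ[R] S := Ideal.Quotient.liftₐ N (ev R S) fun f hf => hN hf
  have hπ : ∀ f, π (Ideal.Quotient.mk N f) = ev R S f := fun f => rfl
  refine ⟨_, inferInstance, inferInstance, π, fun s => ⟨Ideal.Quotient.mk N (X s), by simp [hπ]⟩,
    ?_, ?_⟩
  · rw [pow_two, eq_bot_iff, Ideal.mul_le]
    intro x hx y hy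
    obtain ⟨f, rfl⟩ := Ideal.Quotient.mk_surjective x
    obtain ⟨g, rfl⟩ := Ideal.Quotient.mk_surjective y
    rw [← map_mul, Ideal.mem_bot, Ideal.Quotient.eq_zero_iff_mem]
    refine Ideal.mem_sup_left ?_
    rw [pow_two]
    exact Ideal.mul_mem_mul hx hy
  intro A _ _ I hI a
  have hmk : ∀ {v : S → A}, (∀ s, Ideal.Quotient.mk I (v s) = a s) →
      ∀ f, Ideal.Quotient.mk I (aeval v f) = a (ev R S f) := fun {v} hv f => by
    have h : (Ideal.Quotient.mkₐ R I).comp (aeval v) = a.comp (ev R S) := by
      ext s; simp [hv]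
    exact AlgHom.congr_fun h f
  have hvI : ∀ {v : S → A}, (∀ s, Ideal.Quotient.mk I (v s) = a s) →
      ∀ f, ev R S f = 0 → aeval v f ∈ I := fun {v} hv f hf =>
    Ideal.Quotient.eq_zero_iff_mem.1 (by rw [hmk hv, hf, map_zero])
  have hII : ∀ x ∈ I, ∀ y ∈ I, x * y = 0 := fun x hx y hy => by
    have := Ideal.mul_mem_mul hx hy
    rwa [← pow_two, hI, Ideal.mem_bot] at this
  have taylor : ∀ (v i : S → A), (∀ s, Ideal.Quotient.mk I (v s) = a s) → (∀ s, i s ∈ I) →
      ∀ x, aeval (v + i) (σ x) = aeval v (σ x) + i x := fun v i hv hi x => by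
    rw [aeval_add_eq I hI v i hi, add_right_inj]
    have h : ∀ (s : S) (c c' : MvPolynomial S R), ev R S c = ev R S c' →
        aeval v c * i s = aeval v c' * i s := fun s c c' h => by
      rw [← sub_eq_zero, ← sub_mul, ← map_sub]
      exact hII _ (hvI hv _ (by rw [map_sub, h, sub_self])) _ (hi s)
    classical
    rw [Finsupp.sum_of_support_subset _ (Finset.subset_union_left (s₂ := {x})) _ (fun s _ => by simp),
      Finset.sum_congr rfl fun s _ => h s _ _ (hσ₂ x s),
      Finset.sum_eq_single x (fun s _ hs => by simp [Finsupp.single_eq_of_ne hs])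
        (fun hx => absurd (Finset.mem_union_right _ (Finset.mem_singleton_self x)) hx)]
    simp
  choose v hv using fun s => Ideal.Quotient.mk_surjective (a s)
  let i : S → A := fun s => -aeval v (σ s)
  have hi : ∀ s, i s ∈ I := fun s => I.neg_mem (hvI hv _ (hσ₁ s))
  have hv' : ∀ s, Ideal.Quotient.mk I ((v + i) s) = a s := fun s => by
    rw [Pi.add_apply, map_add, Ideal.Quotient.eq_zero_iff_mem.2 (hi s), add_zero, hv]
  have hker : N ≤ RingHom.ker (aeval (R := R) (v + i)) := by
    refine sup_le ?_ (Ideal.span_le.2 ?_)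
    · rw [pow_two, Ideal.mul_le]
      intro f hf g hg
      rw [RingHom.mem_ker, map_mul]
      exact hII _ (hvI hv' f hf) _ (hvI hv' g hg)
    · rintro _ ⟨x, rfl⟩
      rw [SetLike.mem_coe, RingHom.mem_ker, taylor v i hv hi]
      exact add_neg_cancel _
  refine ⟨Ideal.Quotient.liftₐ N (aeval (v + i)) fun f hf => hker hf, ?_, ?_⟩
  · refine Ideal.Quotient.algHom_ext R ?_
    ext s
    change Ideal.Quotient.mk I (aeval (v + i) (X s)) = a (ev R S (X s))
    rw [aeval_X, aeval_X]
    exact hv' s
  · intro b hb
    refine Ideal.Quotient.algHom_ext R ?_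
    ext s
    let w : S → A := fun s => b (Ideal.Quotient.mk N (X s))
    have hw : ∀ s, Ideal.Quotient.mk I (w s) = a s := fun s =>
      (AlgHom.congr_fun hb (Ideal.Quotient.mk N (X s))).trans (congrArg a (by simp [hπ]))
    have hwb : ∀ f, aeval w f = b (Ideal.Quotient.mk N f) := fun f => by
      have h : aeval w = b.comp (Ideal.Quotient.mkₐ R N) := by ext t; simp [w]
      exact AlgHom.congr_fun h f
    let k : S → A := fun s => (v + i) s - w s
    have hk : ∀ s, k s ∈ I := fun s =>
      Ideal.Quotient.eq_zero_iff_mem.1 (by rw [map_sub, hv', hw, sub_self])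
    have h0 : k s = 0 := by
      have h1 := taylor w k hw hk s
      have h2 : w + k = v + i := funext fun t => by simp [k]
      have h3 : σ s ∈ N := Ideal.mem_sup_right (Ideal.subset_span ⟨s, rfl⟩)
      rw [h2, show aeval (v + i) (σ s) = 0 from hker h3, hwb,
        Ideal.Quotient.eq_zero_iff_mem.2 h3, map_zero, zero_add] at h1
      exact h1.symm
    change w s = aeval (v + i) (X s)
    rw [aeval_X]
    exact (sub_eq_zero.1 h0).symm

end Groth.Agent.Lib.UnivThick.Ring
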